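import Cfsg.Agent.Lib.MonsterLocal.Cen

/-!
# Relations between elements of `Co0` given by matrices

* `matGood` : the checks for one element commuting with the permutation
* `cube_eq_one`, `sq_mul_eq_negOne`, `commute_of_check`, `sq_eq_one` : relations from packed products
* `conj_eq_of_check` : one element conjugated to another
-/

set_option autoImplicit false
open scoped Matrix
open Cfsg

namespace Cfsg.Agent.MonsterLocal

open Leech

/-- The data of one element. -/
structure MatData where
  L : List (List ℤ)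
  T : List (List ℤ)
  P : List ℤ
  Q : List ℤ
  YL : List (List ℤ)
  YT : List (List ℤ)

namespace MatData

/-- The checks on one element. -/
def good (A : MatData) (code : ℕ) : Bool :=
  matOKB A.L A.T A.P A.Q A.YL A.YT &&
  (List.range 24).all fun i => (List.range 24).all fun j =>
    (A.L.getD (Golay.fn code i) []).getD (Golay.fn code j) 0 == (A.L.getD i []).getD j 0

/-- The matrix. -/
def M (A : MatData) : Matrix GolayPt GolayPt ℤ := toMat A.L

/-- The element. -/
noncomputable def el (A : MatData) : Co0 :=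
  if h : matOKB A.L A.T A.P A.Q A.YL A.YT = true then matEl A.M (matOK_of_lists h).1 else 1

variable {A B C D : MatData}

theorem smul_el (h : matOKB A.L A.T A.P A.Q A.YL A.YT = true) (v : leechLattice) :
    A.M *ᵥ (v : GolayPt → ℤ) = (8 : ℤ) • ((A.el • v : leechLattice) : GolayPt → ℤ) := by
  rw [el, dif_pos h]
  exact matImage_spec (matOK_of_lists h).1.2.2.1 v

theorem mk_transpose (h : matOKB A.L A.T A.P A.Q A.YL A.YT = true) : A.Mᵀ = toMat A.T := by
  simp only [matOKB, Bool.and_eq_true, decide_eq_true_eq, beq_iff_eq] at h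
  obtain ⟨⟨⟨⟨⟨⟨⟨⟨⟨⟨hL, hT⟩, hLb⟩, hTb⟩, hP⟩, -⟩, hTP⟩, -⟩, -⟩, -⟩, -⟩ := h
  rw [hP] at hTP
  ext j i
  have hj := Golay.idx_lt j
  obtain ⟨t1, t2⟩ := smallL_spec (List.all_eq_true.1 hTb _
    (show A.T.getD (Golay.idx j) [] ∈ A.T by
      rw [List.getD_eq_getElem _ _ (hT ▸ hj)]; exact List.getElem_mem _))
  have e : A.T.getD (Golay.idx j) [] = A.L.map fun r => r.getD (Golay.idx j) 0 := by
    refine pack_inj _ _ (by rw [t1, List.length_map, hL]) (fun a ha => by have := t2 a ha; omega)
      (fun a ha => ?_) ?_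
    · obtain ⟨r, hr, rfl⟩ := List.mem_map.1 ha
      obtain ⟨r1, r2⟩ := smallL_spec (List.all_eq_true.1 hLb r hr)
      rw [List.getD_eq_getElem _ _ (r1 ▸ hj)]
      have := r2 _ (List.getElem_mem (r1 ▸ hj))
      omega
    · have hT' : Golay.idx j < A.T.length := hT ▸ hj
      have := congrArg (fun l : List ℤ => l[Golay.idx j]?) hTP
      simp only [List.getElem?_map, List.getElem?_eq_getElem hT', packCols,
        List.getElem?_range hj, Option.map_some, Option.some.injEq] at this
      rw [List.getD_eq_getElem _ _ hT']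
      exact this
  show (A.L.getD (Golay.idx i) []).getD (Golay.idx j) 0 = (A.T.getD (Golay.idx j) []).getD (Golay.idx i) 0
  have hi : Golay.idx i < A.L.length := hL ▸ Golay.idx_lt i
  rw [e, List.getD_eq_getElem A.L _ hi, List.getD_eq_getElem _ _ (show Golay.idx i <
    (A.L.map fun r => r.getD (Golay.idx j) 0).length by simpa using hi), List.getElem_map]

end MatData

/-- The packed rows of the product of a matrix with a transpose. -/
def prodP (A B : List (List ℤ)) : List ℤ := A.map fun a => dotL (packCols B) a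

/-- A product equals the multiple `c` of another one. -/
def prodCheck (c : ℤ) (A B C D : List (List ℤ)) : Bool :=
  decide (c.natAbs ≤ 1) && decide (A.length = 24) && decide (B.length = 24) && decide (C.length = 24) &&
    decide (D.length = 24) && A.all smallL && B.all smallL && C.all smallL && D.all smallL &&
    prodP A B == (prodP C D).map (c * ·)

theorem mul_transpose_of_check {c : ℤ} {A B C D : List (List ℤ)} (h : prodCheck c A B C D = true) :
    toMat A * (toMat B)ᵀ = c • (toMat C * (toMat D)ᵀ) := by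
  simp only [prodCheck, Bool.and_eq_true, decide_eq_true_eq, beq_iff_eq] at h
  obtain ⟨⟨⟨⟨⟨⟨⟨⟨⟨hc, hA⟩, hB⟩, hC⟩, hD⟩, hAs⟩, hBs⟩, hCs⟩, hDs⟩, he⟩ := h
  ext i j
  have hi := Golay.idx_lt i
  have hrow : ∀ {X : List (List ℤ)}, X.length = 24 → X.all smallL = true →
      (X.getD (Golay.idx i) []).length = 24 ∧ ∀ a ∈ X.getD (Golay.idx i) [], a.natAbs ≤ 8 :=
    fun {X} hX hXs => smallL_spec (List.all_eq_true.1 hXs _ (by
      rw [List.getD_eq_getElem _ _ (hX ▸ hi)]; exact List.getElem_mem _))
  obtain ⟨a1, a2⟩ := hrow hA hAs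
  obtain ⟨c1, c2⟩ := hrow hC hCs
  have bnd : ∀ {Y : List (List ℤ)}, Y.all smallL = true → ∀ {x : List ℤ}, (∀ a ∈ x, a.natAbs ≤ 8) →
      ∀ a ∈ Y.map (fun r => dotL r x), a.natAbs ≤ 1536 := by
    intro Y hY x hx a ha
    obtain ⟨r, hr, rfl⟩ := List.mem_map.1 ha
    obtain ⟨r1, r2⟩ := smallL_spec (List.all_eq_true.1 hY r hr)
    have := abs_dotL_le r x r2 hx
    rw [r1] at this
    omega
  have key : (B.map fun r => dotL r (A.getD (Golay.idx i) [])) =
      (D.map fun r => dotL r (C.getD (Golay.idx i) [])).map (c * ·) := by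
    refine pack_inj _ _ (by simp [hB, hD]) (fun a ha => ?_) (fun a ha => ?_) ?_
    · have := bnd hBs a2 a ha; omega
    · obtain ⟨d, hd, rfl⟩ := List.mem_map.1 ha
      have := bnd hDs c2 d hd
      rw [Int.natAbs_mul]
      calc c.natAbs * d.natAbs ≤ 1 * 1536 := Nat.mul_le_mul hc this
        _ < 524288 := by norm_num
    · rw [pack_smul, pack_image B a1, pack_image D c1]
      have := congrArg (fun l : List ℤ => l.getD (Golay.idx i) 0) he
      simp only [prodP, List.map_map] at this
      rwa [List.getD_eq_getElem _ _ (by simpa using hA ▸ hi), List.getD_eq_getElem _ _ (by simpa using hC ▸ hi),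
        List.getElem_map, List.getElem_map, Function.comp_apply, ← List.getD_eq_getElem A [] (hA ▸ hi),
        ← List.getD_eq_getElem C [] (hC ▸ hi)] at this
  have e1 : (toMat A * (toMat B)ᵀ) i j = (toMat B *ᵥ vOf (A.getD (Golay.idx i) [])) j := by
    simp only [Matrix.mul_apply, Matrix.transpose_apply, Matrix.mulVec, dotProduct, toMat, Matrix.of_apply]
    exact Finset.sum_congr rfl fun k _ => mul_comm _ _
  have e2 : (toMat C * (toMat D)ᵀ) i j = (toMat D *ᵥ vOf (C.getD (Golay.idx i) [])) j := by
    simp only [Matrix.mul_apply, Matrix.transpose_apply, Matrix.mulVec, dotProduct, toMat, Matrix.of_apply]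
    exact Finset.sum_congr rfl fun k _ => mul_comm _ _
  rw [Matrix.smul_apply, e1, e2, toMat_mulVec B a1, toMat_mulVec D c1, key]
  show ((D.map fun r => dotL r (C.getD (Golay.idx i) [])).map (c * ·)).getD (Golay.idx j) 0 = _
  rw [smul_eq_mul, List.getD_eq_getElem _ _ (by simpa using hD ▸ Golay.idx_lt j), List.getElem_map]
  show _ = c * (D.map fun r => dotL r (C.getD (Golay.idx i) [])).getD (Golay.idx j) 0
  rw [List.getD_eq_getElem (D.map fun r => dotL r (C.getD (Golay.idx i) [])) _ (by simpa using hD ▸ Golay.idx_lt j)]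

theorem eq_of_vec {g h : Co0} {c : ℤ} (hc : c ≠ 0)
    (H : ∀ v : leechLattice, c • ((g • v : leechLattice) : GolayPt → ℤ) = c • ((h • v : leechLattice) : GolayPt → ℤ)) :
    g = h :=
  co0_ext fun v => Subtype.ext (smul_right_injective (GolayPt → ℤ) hc (H v))

namespace MatData

variable {A B C D : MatData} {code : ℕ}

theorem ok_of_good (h : A.good code = true) : matOKB A.L A.T A.P A.Q A.YL A.YT = true := by
  simp only [good, Bool.and_eq_true] at h; exact h.1

theorem orth (h : A.good code = true) : A.Mᵀ * A.M = (64 : ℤ) • 1 :=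
  (matOK_of_lists (ok_of_good h)).1.1

theorem vec_mul (hA : A.good code = true) (hB : B.good code = true) (v : leechLattice) :
    (A.M * B.M) *ᵥ (v : GolayPt → ℤ) = (64 : ℤ) • (((A.el * B.el) • v : leechLattice) : GolayPt → ℤ) := by
  rw [← Matrix.mulVec_mulVec, smul_el (ok_of_good hB), Matrix.mulVec_smul, smul_el (ok_of_good hA), smul_smul,
    show (8 : ℤ) * 8 = 64 by norm_num, mul_smul]

theorem cube_eq_one (h : A.good code = true) {I : List (List ℤ)}
    (hI : toMat I = (8 : ℤ) • (1 : Matrix GolayPt GolayPt ℤ))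
    (hc : prodCheck 1 A.L A.T A.T I = true) : A.el ^ 3 = 1 := by
  have e := mul_transpose_of_check hc
  rw [one_smul, ← mk_transpose (ok_of_good h), hI, Matrix.transpose_transpose, Matrix.transpose_smul,
    Matrix.transpose_one, Matrix.mul_smul, mul_one] at e
  refine eq_of_vec (c := 512) (by norm_num) fun v => ?_
  have h3 : (A.M * A.M * A.M) *ᵥ (v : GolayPt → ℤ) =
      (512 : ℤ) • (((A.el ^ 3) • v : leechLattice) : GolayPt → ℤ) := by
    rw [← Matrix.mulVec_mulVec, smul_el (ok_of_good h), Matrix.mulVec_smul, vec_mul h h, smul_smul,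
      show (8 : ℤ) * 64 = 512 by norm_num, pow_succ, pow_two, mul_smul (A.el * A.el)]
  rw [← h3, show A.M * A.M = toMat A.L * A.M from rfl, e, Matrix.smul_mul, orth h, smul_smul, one_smul,
    Matrix.smul_mulVec, Matrix.one_mulVec]
  norm_num

theorem mul_eq_mul (hA : A.good code = true) (hB : B.good code = true) (hC : C.good code = true)
    (hD : D.good code = true) (hc : prodCheck 1 A.L B.T C.L D.T = true) : A.el * B.el = C.el * D.el := by
  have e := mul_transpose_of_check hc
  rw [one_smul, ← mk_transpose (ok_of_good hB), ← mk_transpose (ok_of_good hD),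
    Matrix.transpose_transpose, Matrix.transpose_transpose] at e
  refine eq_of_vec (c := 64) (by norm_num) fun v => ?_
  rw [← vec_mul hA hB, ← vec_mul hC hD]
  exact congrArg (· *ᵥ (v : GolayPt → ℤ)) e

theorem sq_mul_eq_negOne (hA : A.good code = true) (hB : B.good code = true)
    (hc : prodCheck (-1) A.L B.T B.T A.L = true) : (A.el * B.el) ^ 2 = negOne := by
  have e := mul_transpose_of_check hc
  rw [← mk_transpose (ok_of_good hB), Matrix.transpose_transpose] at e
  refine eq_of_vec (c := 4096) (by norm_num) fun v => ?_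
  have h4 : (A.M * B.M * (A.M * B.M)) *ᵥ (v : GolayPt → ℤ) =
      (4096 : ℤ) • ((((A.el * B.el) ^ 2) • v : leechLattice) : GolayPt → ℤ) := by
    rw [← Matrix.mulVec_mulVec, vec_mul hA hB, Matrix.mulVec_smul, vec_mul hA hB, smul_smul, pow_two,
      show (64 : ℤ) * 64 = 4096 by norm_num, mul_smul (A.el * B.el) (A.el * B.el)]
  rw [← h4]
  have e' : A.M * B.M * (A.M * B.M) = (-4096 : ℤ) • 1 := by
    conv_lhs => arg 1; rw [show A.M * B.M = toMat A.L * B.M from rfl, e]
    rw [Matrix.smul_mul, Matrix.mul_assoc]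
    show (-1 : ℤ) • (B.Mᵀ * (A.Mᵀ * (A.M * B.M))) = _
    rw [← Matrix.mul_assoc A.Mᵀ, orth hA, Matrix.smul_mul, one_mul, Matrix.mul_smul, orth hB, smul_smul,
      smul_smul]
    norm_num
  rw [e', Matrix.smul_mulVec, Matrix.one_mulVec, negOne_smul, AddSubgroup.coe_neg, smul_neg, neg_smul]

theorem el_mem_cen0 (Dt : FixData) (hD : Dt.ok = true) (h : A.good Dt.code = true) : A.el ∈ Dt.cen0 := by
  have hv := Golay.validPerm_of_isAut (FixData.isAut_of_ok hD)
  have h' := h
  simp only [good, Bool.and_eq_true, List.all_eq_true, List.mem_range, beq_iff_eq] at h'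
  have hinv : ∀ i j : GolayPt, A.M ((Dt.pi : Equiv.Perm GolayPt) i) ((Dt.pi : Equiv.Perm GolayPt) j) = A.M i j := by
    intro i j
    rw [FixData.pi_coe hD]
    show (A.L.getD (Golay.idx _) []).getD (Golay.idx _) 0 = _
    rw [Golay.idx_toPerm hv, Golay.idx_toPerm hv]
    exact h'.2 _ (Golay.idx_lt i) _ (Golay.idx_lt j)
  refine Dt.mem_cen0.2 (eq_of_vec (c := 8) (by norm_num) fun v => ?_)
  have hperm : ∀ (w : leechLattice) (i : GolayPt),
      ((MonsterLattice.permHom Dt.pi • w : leechLattice) : GolayPt → ℤ) ((Dt.pi : Equiv.Perm GolayPt) i) =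
        (w : GolayPt → ℤ) i := by
    intro w i
    rw [MonsterLattice.permHom_apply, vec_mono, signedPerm, if_neg (Finset.notMem_empty _),
      Equiv.symm_apply_apply]
  rw [mul_smul, mul_smul, ← smul_el (ok_of_good h)]
  funext j
  obtain ⟨i, rfl⟩ := (Dt.pi : Equiv.Perm GolayPt).surjective j
  rw [Pi.smul_apply, hperm, ← Pi.smul_apply, ← smul_el (ok_of_good h)]
  simp only [Matrix.mulVec, dotProduct]
  rw [← Equiv.sum_comp (Dt.pi : Equiv.Perm GolayPt)]
  exact Finset.sum_congr rfl fun k _ => by rw [hinv, hperm]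

theorem el_smul (h : A.good code = true) {x y : List ℤ} (hx : inLatL x = true) (hy : inLatL y = true)
    (he : decide (x.length = 24) && (A.L.map fun r => dotL r x) == y.map (8 * ·)) :
    A.el • latV x = latV y := by
  simp only [Bool.and_eq_true, decide_eq_true_eq, beq_iff_eq] at he
  refine Subtype.ext (smul_right_injective (GolayPt → ℤ) (by norm_num : (8 : ℤ) ≠ 0) ?_)
  show (8 : ℤ) • ((A.el • latV x : leechLattice) : GolayPt → ℤ) = (8 : ℤ) • (latV y : GolayPt → ℤ)
  rw [← smul_el (ok_of_good h), coe_latV hx, coe_latV hy, show A.M = toMat A.L from rfl,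
    toMat_mulVec A.L he.1, he.2]
  funext i
  show (y.map (8 * ·)).getD (Golay.idx i) 0 = 8 * y.getD (Golay.idx i) 0
  rw [← List.getD_map (f := fun a : ℤ => 8 * a)]
  simp

end MatData

/-- Eight times the identity. -/
def eightI : List (List ℤ) := (List.range 24).map fun i => (List.range 24).map fun j => if i = j then 8 else 0

theorem toMat_eightI : toMat eightI = (8 : ℤ) • (1 : Matrix GolayPt GolayPt ℤ) := by
  ext i j
  rw [Matrix.smul_apply, Matrix.one_apply]
  show (eightI.getD (Golay.idx i) []).getD (Golay.idx j) 0 = _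
  simp only [eightI, List.getD_eq_getElem?_getD, List.getElem?_map, List.getElem?_range (Golay.idx_lt i),
    List.getElem?_range (Golay.idx_lt j), Option.map_some, Option.getD_some]
  by_cases h : i = j
  · simp [h]
  · simp [h, Golay.idx_injective.ne h]

theorem not_cg_of_pr (D : FixData) {l : ℕ} {v w : leechLattice} (h : D.pr l v ≠ D.pr l w) :
    ¬ MonsterLattice.Cg v w := fun hc => h (D.pr_cg l hc)

end Cfsg.Agent.MonsterLocal
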