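import Cfsg.Agent.Lib.MonsterLocal.ThreeFix
import Cfsg.Agent.Lib.MonsterLocal.ThreeMats

/-!
# The checks of the certificates (three)
-/

set_option autoImplicit false
set_option maxRecDepth 100000

namespace Cfsg.Agent.MonsterLocal

theorem threeFix_ok : threeFix.ok = true := by decide +kernel

theorem threeFix_words : Golay.countSpan (fixMask threeFix.code) Golay.rows 0 = 16 := by decide +kernel

theorem threeX_good : threeX.all (fun A => A.good threeFix.code) = true := by decide +kernel

theorem threeX_cube : threeX.all (fun A => prodCheck 1 A.L A.T A.T eightI) = true := by decide +kernel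

theorem threeX_pairs : (List.range 7).all (fun i => (List.range 7).all fun j => decide (j ≤ i) || prodCheck (-1) (threeX.getD i threeX0).L (threeX.getD j threeX0).T (threeX.getD j threeX0).T (threeX.getD i threeX0).L) = true := by decide +kernel

theorem threeMoved_ok : (Leech.inLatL threeMoved && decide ((threeFix.basis.getD 0 []).length = 24) &&
    (threeX0.L.map fun r => Leech.dotL r (threeFix.basis.getD 0 [])) == threeMoved.map (8 * ·) &&
    decide (((Leech.dotL threeMoved (threeFix.duals.getD 0 [])) / 8) % 2 = 0)) = true := by decide +kernel

end Cfsg.Agent.MonsterLocal
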