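import Cfsg.Agent.Lib.MonsterLocal.FiveCheck
import Cfsg.Agent.Lib.MonsterLocal.ThreeCheck
import Cfsg.Agent.Lib.MonsterLocal.Points
import Cfsg.Agent.Lib.Golay.Generators

/-!
# The two permutations in the Mathieu group

* `five_conj` : all elements of order five are conjugate
* `three_conj` : an element of order three is conjugate to the permutation or central in a subgroup of order 27
* `five_cen_le`, `three_cen_le` : bounds for the centralisers
-/

set_option autoImplicit false
set_option maxRecDepth 100000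
open scoped Pointwise
open Cfsg

namespace Cfsg.Agent.MonsterLocal

open Golay

/-- The element of a code. -/
noncomputable def m24Of (d : ℕ) : M24 :=
  if h : isAut d = true then ⟨toPerm d, toPerm_mem_M24 h⟩ else 1

theorem m24Of_coe {d : ℕ} (h : isAut d = true) : (m24Of d : Equiv.Perm GolayPt) = toPerm d := by
  rw [m24Of, dif_pos h]

theorem idx_m24Of {d : ℕ} (h : isAut d = true) (p : GolayPt) :
    idx ((m24Of d : Equiv.Perm GolayPt) p) = fn d (idx p) := by
  rw [m24Of_coe h, idx_toPerm (validPerm_of_isAut h)]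

theorem ext_idx {g h : M24}
    (H : ∀ i < 24, idx ((g : Equiv.Perm GolayPt) (pt i)) = idx ((h : Equiv.Perm GolayPt) (pt i))) : g = h :=
  Subtype.ext (Equiv.ext fun p => idx_injective (by simpa [pt_idx] using H (idx p) (idx_lt p)))

theorem pi_eq_m24Of {D : FixData} (h : D.ok = true) : D.pi = m24Of D.code :=
  Subtype.ext (by rw [FixData.pi_coe h, m24Of_coe (FixData.isAut_of_ok h)])

/-! ### Order five -/

theorem fiveH_ok : isAut fiveH = true ∧
    ∀ i < 24, fn fiveH (fn fiveFix.code i) = fn fiveFix.code (fn fiveFix.code (fn fiveH i)) := by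
  decide +kernel

theorem five_conj {σ : M24} (hσ : orderOf σ = 5) : ∃ τ : M24, τ * σ = fiveFix.pi * τ := by
  haveI : Fact (Nat.Prime 5) := ⟨by norm_num⟩
  set π := fiveFix.pi
  have hπ : orderOf π = 5 := FixData.orderOf_pi fiveFix_ok (by norm_num [fiveFix])
  have hf : (Nat.card M24).factorization 5 = 1 := by
    rw [Golay.natCard_M24, show (244823040 : ℕ) = 5 ^ 1 * 48964608 by norm_num,
      Nat.factorization_mul (by norm_num) (by norm_num), Nat.Prime.factorization_pow (by norm_num)]
    simp [Nat.factorization_eq_zero_of_not_dvd (show ¬ 5 ∣ 48964608 by norm_num)]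
  let P : Sylow 5 M24 := Sylow.ofCard (Subgroup.zpowers σ) (by rw [Nat.card_zpowers, hσ, hf]; norm_num)
  let R : Sylow 5 M24 := Sylow.ofCard (Subgroup.zpowers π) (by rw [Nat.card_zpowers, hπ, hf]; norm_num)
  obtain ⟨τ, hτ⟩ := MulAction.exists_smul_eq M24 P R
  have hm : τ * σ * τ⁻¹ ∈ Subgroup.zpowers π := by
    have : τ * σ * τ⁻¹ ∈ ((τ • P : Sylow 5 M24) : Subgroup M24) := by
      rw [Sylow.coe_subgroup_smul, Subgroup.mem_pointwise_smul_iff_inv_smul_mem]
      simp [P, mul_assoc]
    rwa [hτ] at this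
  obtain ⟨j, hj, he⟩ := Finset.mem_image.1 (mem_zpowers_iff_mem_range_orderOf.1 hm)
  rw [hπ, Finset.mem_range] at hj
  have hj0 : j ≠ 0 := by
    rintro rfl
    rw [pow_zero, eq_comm, conj_eq_one_iff] at he
    rw [he, orderOf_one] at hσ
    norm_num at hσ
  obtain ⟨hA, hh⟩ := fiveH_ok
  set h := m24Of fiveH
  have hsq : h * π * h⁻¹ = π ^ 2 := by
    rw [mul_inv_eq_iff_eq_mul]
    refine ext_idx fun i hi => ?_
    simp only [h, π, pi_eq_m24Of fiveFix_ok, Subgroup.coe_mul, SubmonoidClass.coe_pow, pow_two,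
      Equiv.Perm.mul_apply, idx_m24Of hA, idx_m24Of (FixData.isAut_of_ok fiveFix_ok), idx_pt hi]
    exact hh i hi
  have hk : ∀ k : ℕ, h ^ k * π * (h ^ k)⁻¹ = π ^ 2 ^ k := by
    intro k
    induction k with
    | zero => simp
    | succ k ih =>
      calc h ^ (k + 1) * π * (h ^ (k + 1))⁻¹ = h * (h ^ k * π * (h ^ k)⁻¹) * h⁻¹ := by
            rw [pow_succ']; group
        _ = (h * π * h⁻¹) ^ 2 ^ k := by rw [ih, conj_pow]
        _ = _ := by rw [hsq, ← pow_mul, ← pow_succ']
  obtain ⟨k, hk'⟩ : ∃ k, π ^ 2 ^ k = π ^ j := by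
    rcases (show j = 1 ∨ j = 2 ∨ j = 3 ∨ j = 4 by omega) with rfl | rfl | rfl | rfl
    · exact ⟨0, rfl⟩
    · exact ⟨1, rfl⟩
    · refine ⟨3, ?_⟩
      rw [← pow_mod_orderOf π (2 ^ 3), hπ]
      rfl
    · exact ⟨2, rfl⟩
  refine ⟨(h ^ k)⁻¹ * τ, ?_⟩
  have e : τ * σ * τ⁻¹ = h ^ k * π * (h ^ k)⁻¹ := by rw [hk, hk', he]
  calc (h ^ k)⁻¹ * τ * σ = (h ^ k)⁻¹ * (τ * σ * τ⁻¹) * τ := by group
    _ = π * ((h ^ k)⁻¹ * τ) := by rw [e]; group

theorem fiveFrame_ok : (isCode fiveO = true ∧ popcount fiveO = 8) ∧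
    Function.Injective (fun i : Fin 7 => pt (fiveFrame.getD i.val 0)) ∧
    (∀ i < 6, fiveO.testBit (fiveFrame.getD i 0) = true) ∧ fiveO.testBit (fiveFrame.getD 6 0) = false ∧
    (∀ i < 4, fn fiveFix.code (fiveFrame.getD i 0) = fiveFrame.getD (i + 1) 0) ∧
    fn fiveFix.code (fiveFrame.getD 5 0) = fiveFrame.getD 5 0 ∧
    fn fiveFix.code (fiveFrame.getD 6 0) = fiveFrame.getD 6 0 ∧
    (∀ i < 24, fn fiveFix.code i = i → fiveO.testBit i = true ∨ i = fiveFrame.getD 6 0) ∧
    (∀ i < 7, fiveFrame.getD i 0 < 24) ∧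
    ((Finset.range 24).filter fun i => fn fiveFix.code i = i).card = 4 ∧
    ((Finset.range 24).filter fun i => fn fiveFix.code i ≠ i).card = 20 ∧
    fn fiveFix.code (fiveFrame.getD 0 0) ≠ fiveFrame.getD 0 0 := by
  decide +kernel

theorem five_cen_le : Nat.card {σ : M24 // σ * fiveFix.pi = fiveFix.pi * σ} ≤ 80 := by
  obtain ⟨⟨hc1, hc2⟩, hinj, hin, hout, hcyc, hf5, hf6, honly, hlt, hcard, hcard', hmv⟩ := fiveFrame_ok
  set x : Fin 7 → GolayPt := fun i => pt (fiveFrame.getD i.val 0)
  have hOmem : pts fiveO ∈ octads := pts_mem_octads (by rw [hc1, hc2]; rfl)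
  have hidx : ∀ i : Fin 7, idx (x i) = fiveFrame.getD i.val 0 := fun i => idx_pt (hlt _ i.2)
  have hframe : IsFrame x := ⟨hinj, pts fiveO, hOmem,
    fun i hi => mem_pts.2 (by rw [hidx]; exact hin _ hi), fun h => by
      rw [mem_pts, hidx] at h
      exact Bool.false_ne_true (hout.symm.trans h)⟩
  have hv := validPerm_of_isAut (FixData.isAut_of_ok fiveFix_ok)
  have hπ : ∀ p, idx ((fiveFix.pi : Equiv.Perm GolayPt) p) = fn fiveFix.code (idx p) := fun p => by
    rw [pi_eq_m24Of fiveFix_ok, idx_m24Of (FixData.isAut_of_ok fiveFix_ok)]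
  have hcomm : ∀ (σ : {σ : M24 // σ * fiveFix.pi = fiveFix.pi * σ}) (p : GolayPt),
      idx ((σ.1 : Equiv.Perm GolayPt) ((fiveFix.pi : Equiv.Perm GolayPt) p)) =
        fn fiveFix.code (idx ((σ.1 : Equiv.Perm GolayPt) p)) := fun σ p => by
    rw [← hπ]; exact congrArg (fun g : M24 => idx ((g : Equiv.Perm GolayPt) p)) σ.2
  have hfix : ∀ (σ : {σ : M24 // σ * fiveFix.pi = fiveFix.pi * σ}) (p : GolayPt),
      fn fiveFix.code (idx p) = idx p →
      fn fiveFix.code (idx ((σ.1 : Equiv.Perm GolayPt) p)) = idx ((σ.1 : Equiv.Perm GolayPt) p) := fun σ p h => by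
    rw [← hcomm, show (fiveFix.pi : Equiv.Perm GolayPt) p = p from idx_injective (by rw [hπ, h])]
  refine le_trans (Nat.card_le_card_of_injective (β := ↥(((Finset.range 24).filter fun i => fn fiveFix.code i ≠ i) ×ˢ
      ((Finset.range 24).filter fun i => fn fiveFix.code i = i)))
    (fun σ => ⟨(idx ((σ.1 : Equiv.Perm GolayPt) (x 0)), idx ((σ.1 : Equiv.Perm GolayPt) (x 5))),
      Finset.mem_product.2 ⟨Finset.mem_filter.2 ⟨Finset.mem_range.2 (idx_lt _), fun e => hmv ?_⟩,
        Finset.mem_filter.2 ⟨Finset.mem_range.2 (idx_lt _), hfix σ _ (by rw [hidx]; exact hf5)⟩⟩⟩) ?_) ?_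
  · have h1 : (fiveFix.pi : Equiv.Perm GolayPt) (x 0) = x 0 :=
      (σ.1 : Equiv.Perm GolayPt).injective (idx_injective (by rw [hcomm, e]))
    have h2 := congrArg idx h1
    rw [hπ, hidx] at h2
    exact h2
  · intro σ τ e
    simp only [Subtype.mk.injEq, Prod.mk.injEq] at e
    obtain ⟨e0, e5⟩ := e
    have hc : ∀ i : ℕ, (hi : i < 5) →
        (σ.1 : Equiv.Perm GolayPt) (x ⟨i, by omega⟩) = (τ.1 : Equiv.Perm GolayPt) (x ⟨i, by omega⟩) := by
      intro i
      induction i with
      | zero => exact fun _ => idx_injective e0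
      | succ i ih =>
        intro hi
        have hx : x ⟨i + 1, by omega⟩ = (fiveFix.pi : Equiv.Perm GolayPt) (x ⟨i, by omega⟩) :=
          idx_injective (by rw [hπ, hidx, hidx]; exact (hcyc i (by omega)).symm)
        refine idx_injective ?_
        rw [hx, hcomm, hcomm, ih (by omega)]
    set g : M24 := τ.1⁻¹ * σ.1
    have hg5 : ∀ i : Fin 7, i.val < 6 → (g : Equiv.Perm GolayPt) (x i) = x i := by
      intro i hi
      have : (σ.1 : Equiv.Perm GolayPt) (x i) = (τ.1 : Equiv.Perm GolayPt) (x i) := by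
        by_cases h5 : i.val < 5
        · exact hc i.val h5
        · rw [show i = (5 : Fin 7) from Fin.ext (show i.val = 5 by omega)]
          exact idx_injective e5
      show (τ.1 : Equiv.Perm GolayPt).symm ((σ.1 : Equiv.Perm GolayPt) (x i)) = x i
      rw [this, Equiv.symm_apply_apply]
    have hgc : g * fiveFix.pi = fiveFix.pi * g := by
      have h1 : Commute σ.1 fiveFix.pi := σ.2
      have h2 : Commute τ.1 fiveFix.pi := τ.2
      exact (h2.inv_left.mul_left h1).eq
    have hO : (g : Equiv.Perm GolayPt) • pts fiveO = pts fiveO := by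
      refine octad_eq_of_five (smul_mem_octads g.2 hOmem) hOmem ?_
      calc 5 = (Finset.univ.image fun i : Fin 5 => x ⟨i.val, by omega⟩).card := by
            rw [Finset.card_image_of_injective (f := fun i : Fin 5 => x ⟨i.val, by omega⟩) _
              (fun a b h => Fin.ext (congrArg Fin.val (hinj h) :)), Finset.card_univ, Fintype.card_fin]
        _ ≤ _ := Finset.card_le_card fun p hp => by
            obtain ⟨i, -, rfl⟩ := Finset.mem_image.mp hp
            refine Finset.mem_inter.mpr ⟨?_, mem_pts.2 (by rw [hidx]; exact hin _ (show i.val < 6 by omega))⟩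
            exact Finset.mem_smul_finset.2 ⟨x ⟨i.val, by omega⟩, mem_pts.2 (by rw [hidx]; exact hin _ (show i.val < 6 by omega)),
              hg5 ⟨i.val, by omega⟩ (show i.val < 6 by omega)⟩
    have hg6 : (g : Equiv.Perm GolayPt) (x 6) = x 6 := by
      refine idx_injective ?_
      rw [hidx]
      refine (honly _ (idx_lt _) (hfix ⟨g, hgc⟩ _ (by rw [hidx]; exact hf6))).resolve_left fun h => ?_
      have h' : (g : Equiv.Perm GolayPt) (x 6) ∈ (g : Equiv.Perm GolayPt) • pts fiveO := hO.symm ▸ mem_pts.2 h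
      rw [← Equiv.Perm.smul_def, Finset.smul_mem_smul_finset_iff, mem_pts, hidx] at h'
      exact Bool.false_ne_true (hout.symm.trans h')
    have : g = 1 := Subtype.ext (eq_one_of_frame g.2 hframe fun i => by
      by_cases hi : i.val < 6
      · exact hg5 i hi
      · rw [show i = (6 : Fin 7) from Fin.ext (show i.val = 6 by omega)]; exact hg6)
    exact Subtype.ext (inv_mul_eq_one.1 this).symm
  · rw [Nat.card_eq_finsetCard, Finset.card_product, hcard, hcard']

/-! ### Order three -/

/-- The six points. -/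
def threeSixPts : List ℕ :=
  [threePtA, fn threeFix.code threePtA, fn threeFix.code (fn threeFix.code threePtA),
    threePtB, fn threeFix.code threePtB, fn threeFix.code (fn threeFix.code threePtB)]

/-- The frame. -/
def threePts : List ℕ := (threeSixPts.take 5) ++ [threePtC, threeSixPts.getD 5 0]

/-- A row of the table is correct. -/
def rowOk (r : ℕ × ℕ × ℕ × ℕ) : Bool :=
  isAut r.2.2.2 && fn r.2.2.2 threePtA == threePtA && fn r.2.2.2 (fn threeFix.code threePtA) == fn threeFix.code threePtA &&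
  fn r.2.2.2 (fn threeFix.code (fn threeFix.code threePtA)) == fn threeFix.code (fn threeFix.code threePtA) &&
  fn r.2.2.2 threePtB == r.1 && fn r.2.2.2 (fn threeFix.code threePtB) == fn threeFix.code r.1 &&
  fn r.2.2.2 (fn threeFix.code (fn threeFix.code threePtB)) == fn threeFix.code (fn threeFix.code r.1) &&
  fn r.2.2.2 threePtC == r.2.2.1

/-- The table covers the possible images. -/
def tabCover : Bool :=
  (List.range 24).all fun q => q == threePtA || q == fn threeFix.code threePtA ||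
    q == fn threeFix.code (fn threeFix.code threePtA) ||
    let five := [threePtA, fn threeFix.code threePtA, fn threeFix.code (fn threeFix.code threePtA), q, fn threeFix.code q]
    let O := ((threeTab.find? fun r => r.1 == q).map fun r => r.2.1).getD 0
    isCode O && popcount O == 8 && five.all (fun k => O.testBit k) && decide five.Nodup &&
      (List.range 24).all fun r => !O.testBit r || five.contains r ||
        threeTab.any fun row => row.1 == q && row.2.2.1 == r

/-- The rows commuting with the permutation. -/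
def tabComm : List ℕ :=
  ((threeTab.map fun r => r.2.2.2).filter fun d =>
    (List.range 24).all fun i => fn d (fn threeFix.code i) == fn threeFix.code (fn d i))

theorem threeTab_ok : threeTab.all rowOk = true ∧ tabCover = true ∧ tabComm.length = 21 := by decide +kernel

theorem threePts_ok : (isCode threeO = true ∧ popcount threeO = 8) ∧
    Function.Injective (fun i : Fin 7 => pt (threePts.getD i.val 0)) ∧
    (∀ i < 6, threeO.testBit (threePts.getD i 0) = true) ∧ threeO.testBit (threePts.getD 6 0) = false ∧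
    (∀ i < 7, threePts.getD i 0 < 24) ∧
    fn threeFix.code (fn threeFix.code (fn threeFix.code threePtA)) = threePtA ∧
    threePtA < 24 ∧ threePtB < 24 ∧ fn threeFix.code threePtA < 24 ∧ fn threeFix.code threePtB < 24 := by
  decide +kernel

theorem three_stab_le : Nat.card {σ : M24 // σ * threeFix.pi = threeFix.pi * σ ∧
    (σ : Equiv.Perm GolayPt) (pt threePtA) = pt threePtA} ≤ 21 := by
  obtain ⟨⟨hc1, hc2⟩, hinj, hin, hout, hlt, -, ha, hb, ha', hb'⟩ := threePts_ok
  obtain ⟨hrows, hcover, hlen⟩ := threeTab_ok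
  set x : Fin 7 → GolayPt := fun i => pt (threePts.getD i.val 0)
  have hidx : ∀ i : Fin 7, idx (x i) = threePts.getD i.val 0 := fun i => idx_pt (hlt _ i.2)
  have hOmem : pts threeO ∈ octads := pts_mem_octads (by rw [hc1, hc2]; rfl)
  have hframe : IsFrame x := ⟨hinj, pts threeO, hOmem,
    fun i hi => mem_pts.2 (by rw [hidx]; exact hin _ hi), fun h => by
      rw [mem_pts, hidx] at h
      exact Bool.false_ne_true (hout.symm.trans h)⟩
  have hπ : ∀ p, idx ((threeFix.pi : Equiv.Perm GolayPt) p) = fn threeFix.code (idx p) := fun p => by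
    rw [pi_eq_m24Of threeFix_ok, idx_m24Of (FixData.isAut_of_ok threeFix_ok)]
  suffices H : ∀ σ : {σ : M24 // σ * threeFix.pi = threeFix.pi * σ ∧
      (σ : Equiv.Perm GolayPt) (pt threePtA) = pt threePtA}, ∃ d ∈ tabComm, isAut d = true ∧ σ.1 = m24Of d by
    choose d hd hda hdσ using H
    classical
    calc _ ≤ Nat.card tabComm.toFinset := Nat.card_le_card_of_injective
          (fun σ => (⟨d σ, List.mem_toFinset.2 (hd σ)⟩ : tabComm.toFinset))
          (fun σ τ e => Subtype.ext (by rw [hdσ σ, hdσ τ, show d σ = d τ from congrArg Subtype.val e]))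
      _ ≤ 21 := by rw [Nat.card_eq_finsetCard]; exact hlen ▸ List.toFinset_card_le _
  rintro ⟨g, hgc, hga⟩
  have hcomm : ∀ p : GolayPt, idx ((g : Equiv.Perm GolayPt) ((threeFix.pi : Equiv.Perm GolayPt) p)) =
      fn threeFix.code (idx ((g : Equiv.Perm GolayPt) p)) := fun p => by
    rw [← hπ]; exact congrArg (fun h : M24 => idx ((h : Equiv.Perm GolayPt) p)) hgc
  have step : ∀ i j, i < 24 → idx ((g : Equiv.Perm GolayPt) (pt i)) = j →
      idx ((g : Equiv.Perm GolayPt) (pt (fn threeFix.code i))) = fn threeFix.code j := by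
    intro i j hi e
    rw [show pt (fn threeFix.code i) = (threeFix.pi : Equiv.Perm GolayPt) (pt i) by
      refine idx_injective ?_
      rw [hπ, idx_pt hi, idx_pt (fn_lt_of_valid (validPerm_of_isAut (FixData.isAut_of_ok threeFix_ok)) hi)],
      hcomm, e]
  have a0 : idx ((g : Equiv.Perm GolayPt) (pt threePtA)) = threePtA := by rw [hga, idx_pt ha]
  have a1 := step _ _ ha a0
  have a2 := step _ _ ha' a1
  set q := idx ((g : Equiv.Perm GolayPt) (pt threePtB)) with hq
  have b1 := step _ _ hb hq.symm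
  have b2 := step _ _ hb' b1
  have hpts : threePts = [threePtA, fn threeFix.code threePtA, fn threeFix.code (fn threeFix.code threePtA),
      threePtB, fn threeFix.code threePtB, threePtC, fn threeFix.code (fn threeFix.code threePtB)] := rfl
  have gne : ∀ i j : Fin 7, i ≠ j → idx ((g : Equiv.Perm GolayPt) (x i)) ≠ idx ((g : Equiv.Perm GolayPt) (x j)) :=
    fun i j hij e => hij (hinj ((g : Equiv.Perm GolayPt).injective (idx_injective e)))
  have hqa : q ≠ threePtA ∧ q ≠ fn threeFix.code threePtA ∧ q ≠ fn threeFix.code (fn threeFix.code threePtA) :=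
    ⟨fun e => gne 3 0 (by decide) (show q = idx _ from e.trans a0.symm),
      fun e => gne 3 1 (by decide) (show q = idx _ from e.trans a1.symm),
      fun e => gne 3 2 (by decide) (show q = idx _ from e.trans a2.symm)⟩
  have hc := hcover
  simp only [tabCover, List.all_eq_true, List.mem_range, Bool.or_eq_true, beq_iff_eq] at hc
  obtain h | h := hc q (idx_lt _)
  · rcases h with (h | h) | h
    · exact absurd h hqa.1
    · exact absurd h hqa.2.1
    · exact absurd h hqa.2.2
  simp only [Bool.and_eq_true, decide_eq_true_eq, List.all_eq_true, List.mem_range, Bool.or_eq_true,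
    Bool.not_eq_true', List.contains_eq_mem, beq_iff_eq] at h
  obtain ⟨⟨⟨⟨hO1, hO2⟩, hOf⟩, hnd⟩, hOr⟩ := h
  set O := ((threeTab.find? fun r => r.1 == q).map fun r => r.2.1).getD 0
  have hO : (g : Equiv.Perm GolayPt) • pts threeO = pts O := by
    refine octad_eq_of_five (smul_mem_octads g.2 hOmem) (pts_mem_octads (by rw [hO1, hO2]; rfl)) ?_
    calc 5 = (Finset.univ.image fun i : Fin 5 => (g : Equiv.Perm GolayPt) (x ⟨i.val, by omega⟩)).card := by
          rw [Finset.card_image_of_injective (f := fun i : Fin 5 => (g : Equiv.Perm GolayPt) (x ⟨i.val, by omega⟩)) _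
            (fun a b h =>
            Fin.ext (congrArg Fin.val (hinj ((g : Equiv.Perm GolayPt).injective h)) :)), Finset.card_univ,
            Fintype.card_fin]
      _ ≤ _ := Finset.card_le_card fun p hp => by
          obtain ⟨i, -, rfl⟩ := Finset.mem_image.mp hp
          refine Finset.mem_inter.mpr ⟨Finset.smul_mem_smul_finset (mem_pts.2 (by rw [hidx]; exact hin _ (show i.val < 6 by omega))),
            mem_pts.2 (hOf _ ?_)⟩
          fin_cases i
          · exact List.mem_cons.2 (Or.inl a0)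
          · exact List.mem_cons_of_mem _ (List.mem_cons.2 (Or.inl a1))
          · exact List.mem_cons_of_mem _ (List.mem_cons_of_mem _ (List.mem_cons.2 (Or.inl a2)))
          · exact List.mem_cons_of_mem _ (List.mem_cons_of_mem _ (List.mem_cons_of_mem _ (List.mem_cons.2 (Or.inl rfl))))
          · exact List.mem_cons_of_mem _ (List.mem_cons_of_mem _ (List.mem_cons_of_mem _ (List.mem_cons_of_mem _
              (List.mem_cons.2 (Or.inl b1)))))
  set r := idx ((g : Equiv.Perm GolayPt) (pt threePtC)) with hr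
  have hrO : O.testBit r = true := by
    have := Finset.smul_mem_smul_finset (a := (g : Equiv.Perm GolayPt))
      (mem_pts.2 (by rw [hidx]; exact hin 5 (by omega)) : x 5 ∈ pts threeO)
    rw [hO] at this
    exact mem_pts.1 this
  have hrn : r ∉ [threePtA, fn threeFix.code threePtA, fn threeFix.code (fn threeFix.code threePtA), q, fn threeFix.code q] := by
    intro hm
    simp only [List.mem_cons, List.not_mem_nil, or_false] at hm
    rcases hm with e | e | e | e | e
    · exact gne 5 0 (by decide) (show r = idx _ from e.trans a0.symm)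
    · exact gne 5 1 (by decide) (show r = idx _ from e.trans a1.symm)
    · exact gne 5 2 (by decide) (show r = idx _ from e.trans a2.symm)
    · exact gne 5 3 (by decide) e
    · exact gne 5 4 (by decide) (show r = idx _ from e.trans b1.symm)
  obtain h | h := hOr r (idx_lt _)
  · rcases h with h | h
    · rw [hrO] at h; exact absurd h (by simp)
    · exact absurd h hrn
  rw [List.any_eq_true] at h
  obtain ⟨⟨q', O', r', d⟩, hrow, he⟩ := h
  simp only [Bool.and_eq_true, beq_iff_eq] at he
  obtain ⟨rfl, rfl⟩ := he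
  have := List.all_eq_true.1 hrows _ hrow
  simp only [rowOk, Bool.and_eq_true, beq_iff_eq] at this
  obtain ⟨⟨⟨⟨⟨⟨⟨hd, d0⟩, d1⟩, d2⟩, d3⟩, d4⟩, d5⟩, d6⟩ := this
  have hgd : g = m24Of d := by
    refine Subtype.ext (eq_of_frame g.2 (m24Of d).2 hframe fun i => idx_injective ?_)
    rw [idx_m24Of hd, hidx, hpts]
    show idx ((g : Equiv.Perm GolayPt) (pt (threePts.getD i.val 0))) = _
    rw [hpts]
    fin_cases i
    · exact a0.trans d0.symm
    · exact a1.trans d1.symm
    · exact a2.trans d2.symm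
    · exact d3.symm
    · exact b1.trans d4.symm
    · exact d6.symm
    · exact b2.trans d5.symm
  refine ⟨d, List.mem_filter.2 ⟨List.mem_map.2 ⟨_, hrow, rfl⟩, ?_⟩, hd, hgd⟩
  rw [List.all_eq_true]
  intro i hi
  rw [beq_iff_eq]
  have hi' := List.mem_range.1 hi
  have e := step i _ hi' rfl
  rwa [hgd, idx_m24Of hd, idx_m24Of hd, idx_pt hi',
    idx_pt (fn_lt_of_valid (validPerm_of_isAut (FixData.isAut_of_ok threeFix_ok)) hi')] at e

theorem three_cen_le : Nat.card {σ : M24 // σ * threeFix.pi = threeFix.pi * σ} ≤ 504 := by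
  classical
  let H : Subgroup M24 := Subgroup.centralizer {threeFix.pi}
  have h0 : Nat.card {σ : M24 // σ * threeFix.pi = threeFix.pi * σ} = Nat.card H :=
    Nat.card_congr (Equiv.subtypeEquivRight fun σ => Subgroup.mem_centralizer_singleton_iff.symm)
  let S : Subgroup H := (MulAction.stabilizer M24 (pt threePtA)).subgroupOf H
  have hS : Nat.card S ≤ 21 := le_trans (Nat.card_le_card_of_injective
    (fun s : S => (⟨s.1.1, Subgroup.mem_centralizer_singleton_iff.1 s.1.2,
      MulAction.mem_stabilizer_iff.1 (Subgroup.mem_subgroupOf.1 s.2)⟩ :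
      {σ : M24 // σ * threeFix.pi = threeFix.pi * σ ∧ (σ : Equiv.Perm GolayPt) (pt threePtA) = pt threePtA}))
    (fun s t e => Subtype.ext (Subtype.ext (congrArg (fun w => w.1) e)))) three_stab_le
  have hQ : Nat.card (H ⧸ S) ≤ 24 := by
    refine le_trans (Nat.card_le_card_of_injective (β := GolayPt)
      (fun q => ((q.out : H) : M24).1 (pt threePtA)) fun q q' e => ?_) (by rw [Nat.card_eq_fintype_card]; exact le_of_eq Leech.card_pt)
    rw [← q.out_eq', ← q'.out_eq', QuotientGroup.eq]
    refine Subgroup.mem_subgroupOf.2 (MulAction.mem_stabilizer_iff.2 ?_)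
    show (((q.out : H) : M24).1)⁻¹ (((q'.out : H) : M24).1 (pt threePtA)) = pt threePtA
    exact (congrArg _ e.symm).trans (((q.out : H) : M24).1.symm_apply_apply _)
  rw [h0, Subgroup.card_eq_card_quotient_mul_card_subgroup S]
  exact Nat.mul_le_mul hQ hS

/-- The recorded type of an element. -/
def recOk (d : ℕ) (r : ℕ × ℕ) : Bool :=
  (r.1 == 0 && d == idCode) || (isAut r.2 &&
    ((r.1 == 1 && (List.range 24).all fun i => fn r.2 (fn d i) == fn threeFix.code (fn r.2 i)) ||
     (r.1 == 2 && (List.range 24).all fun i => fn r.2 (fn d i) == fn threeZ (fn r.2 i)) ||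
     (r.1 == 3 && (List.range 24).all fun i => fn r.2 (fn d i) == fn threeZ (fn threeZ (fn r.2 i)))))

theorem threeSyl_ok : (threeSyl.all isAut = true ∧ threeSyl.Nodup ∧ threeSyl.length = 27 ∧ idCode ∈ threeSyl ∧
      threeZ ∈ threeSyl) ∧
    (∀ a ∈ threeSyl, ∀ b ∈ threeSyl, mulCode a b ∈ threeSyl) ∧
    (∀ a ∈ threeSyl, ∀ b ∈ threeSyl, (List.range 24).map (fn a) = (List.range 24).map (fn b) → a = b) ∧
    (∀ a ∈ threeSyl, ∀ i < 24, fn a (fn threeZ i) = fn threeZ (fn a i)) ∧
    (threeSyl.zip threeRecs).all (fun q => recOk q.1 q.2) = true ∧ threeRecs.length = 27 := by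
  decide +kernel

theorem three_conj {σ : M24} (hσ : orderOf σ = 3) :
    (∃ τ : M24, τ * σ = threeFix.pi * τ) ∨
      ∃ T : Subgroup M24, Nat.card T = 27 ∧ σ ∈ T ∧ ∀ t ∈ T, t * σ = σ * t := by
  haveI : Fact (Nat.Prime 3) := ⟨by norm_num⟩
  obtain ⟨⟨haut, hnd, hlen, hid, hz⟩, hmul, hdist, hzc, hrec, hlen'⟩ := threeSyl_ok
  have hA : ∀ a ∈ threeSyl, isAut a = true := List.all_eq_true.1 haut
  have hmulc : ∀ a ∈ threeSyl, ∀ b ∈ threeSyl, m24Of (mulCode a b) = m24Of a * m24Of b := by
    intro a ha b hb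
    refine Subtype.ext ?_
    rw [m24Of_coe (hA _ (hmul a ha b hb)), Subgroup.coe_mul, m24Of_coe (hA a ha), m24Of_coe (hA b hb),
      toPerm_mulCode (validPerm_of_isAut (hA a ha)) (validPerm_of_isAut (hA b hb))
        (validPerm_of_isAut (hA _ (hmul a ha b hb)))]
  have hid1 : m24Of idCode = 1 := Subtype.ext (by rw [m24Of_coe (hA _ hid), toPerm_idCode.2]; rfl)
  let S : Submonoid M24 :=
    { carrier := {g | ∃ a ∈ threeSyl, g = m24Of a}
      one_mem' := ⟨_, hid, hid1.symm⟩
      mul_mem' := by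
        rintro _ _ ⟨a, ha, rfl⟩ ⟨b, hb, rfl⟩
        exact ⟨_, hmul a ha b hb, (hmulc a ha b hb).symm⟩ }
  have hinv : ∀ g : M24, g ∈ S → g⁻¹ ∈ S := fun g hg =>
    (Submonoid.powers_le.2 hg) (mem_powers_iff_mem_zpowers.2 (inv_mem (Subgroup.mem_zpowers g)))
  let T : Subgroup M24 := { toSubmonoid := S, inv_mem' := fun {g} hg => hinv g hg }
  have hinjT : ∀ a ∈ threeSyl, ∀ b ∈ threeSyl, m24Of a = m24Of b → a = b := fun a ha b hb e =>
    hdist a ha b hb (List.map_congr_left fun i hi => by
      have := congrArg (fun g : M24 => idx ((g : Equiv.Perm GolayPt) (pt i))) e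
      simpa [idx_m24Of (hA a ha), idx_m24Of (hA b hb), idx_pt (List.mem_range.1 hi)] using this)
  have hT : Nat.card T = 27 := by
    classical
    let f : threeSyl.toFinset → T := fun a => ⟨m24Of a, a, List.mem_toFinset.1 a.2, rfl⟩
    have hf : Function.Bijective f := by
      refine ⟨fun a b e => Subtype.ext
        (hinjT _ (List.mem_toFinset.1 a.2) _ (List.mem_toFinset.1 b.2) (congrArg Subtype.val e)), ?_⟩
      intro g
      obtain ⟨a, ha, hg⟩ := g.2
      exact ⟨⟨a, List.mem_toFinset.2 ha⟩, Subtype.ext hg.symm⟩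
    rw [← Nat.card_congr (Equiv.ofBijective f hf), Nat.card_eq_finsetCard, List.toFinset_card_of_nodup hnd, hlen]
  have hf : (Nat.card M24).factorization 3 = 3 := by
    rw [Golay.natCard_M24, show (244823040 : ℕ) = 3 ^ 3 * 9067520 by norm_num,
      Nat.factorization_mul (by norm_num) (by norm_num), Nat.Prime.factorization_pow (by norm_num)]
    simp [Nat.factorization_eq_zero_of_not_dvd (show ¬ 3 ∣ 9067520 by norm_num)]
  let P : Sylow 3 M24 := Sylow.ofCard T (by rw [hT, hf]; norm_num)
  have hσp : IsPGroup 3 (Subgroup.zpowers σ) :=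
    IsPGroup.of_card (n := 1) (by rw [Nat.card_zpowers, hσ, pow_one])
  obtain ⟨P', hP'⟩ := hσp.exists_le_sylow
  obtain ⟨τ, hτ⟩ := MulAction.exists_smul_eq M24 P' P
  obtain ⟨a, ha, hae⟩ : τ * σ * τ⁻¹ ∈ T := by
    have : τ * σ * τ⁻¹ ∈ ((τ • P' : Sylow 3 M24) : Subgroup M24) := by
      rw [Sylow.coe_subgroup_smul, Subgroup.mem_pointwise_smul_iff_inv_smul_mem]
      simpa [mul_assoc] using hP' (Subgroup.mem_zpowers σ)
    rwa [hτ] at this
  obtain ⟨n, hn, ea⟩ := List.getElem_of_mem ha
  have hn' : n < threeRecs.length := by rw [hlen']; rw [hlen] at hn; exact hn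
  have hr := List.all_eq_true.1 hrec (a, threeRecs[n]) (by
    rw [List.mem_iff_getElem, ← ea]; exact ⟨n, by simp [hn, hn'], List.getElem_zip⟩)
  set r := threeRecs[n]
  simp only [recOk, Bool.or_eq_true, Bool.and_eq_true, beq_iff_eq, List.all_eq_true, List.mem_range] at hr
  rcases hr with ⟨-, he⟩ | ⟨hr2, hr⟩
  · exfalso
    rw [he, hid1, conj_eq_one_iff] at hae
    rw [hae, orderOf_one] at hσ
    norm_num at hσ
  have key : ∀ (c : M24), (∀ i < 24, idx ((c : Equiv.Perm GolayPt) ((m24Of r.2 : Equiv.Perm GolayPt) (pt i))) =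
      fn r.2 (fn a i)) → (m24Of r.2 * τ) * σ = c * (m24Of r.2 * τ) := by
    intro c hc
    have e : m24Of r.2 * m24Of a = c * m24Of r.2 := ext_idx fun i hi => by
      simp only [Subgroup.coe_mul, Equiv.Perm.mul_apply, idx_m24Of hr2, idx_m24Of (hA a ha), idx_pt hi]
      exact (hc i hi).symm
    calc m24Of r.2 * τ * σ = m24Of r.2 * (τ * σ * τ⁻¹) * τ := by group
      _ = _ := by rw [hae, e, mul_assoc]
  have cen : ∀ c : M24, c ∈ T → (∀ t ∈ T, t * c = c * t) → (m24Of r.2 * τ) * σ = c * (m24Of r.2 * τ) →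
      ∃ U : Subgroup M24, Nat.card U = 27 ∧ σ ∈ U ∧ ∀ t ∈ U, t * σ = σ * t := by
    intro c hc hcc e
    set k := m24Of r.2 * τ
    refine ⟨T.comap (MulAut.conj k).toMonoidHom, ?_, ?_, fun t ht => ?_⟩
    · rw [← hT]
      exact Nat.card_congr
        { toFun := fun w => ⟨k * w.1 * k⁻¹, w.2⟩
          invFun := fun w => ⟨k⁻¹ * w.1 * k, by
            show k * (k⁻¹ * w.1 * k) * k⁻¹ ∈ T
            simp [mul_assoc]⟩
          left_inv := fun w => Subtype.ext (by simp [mul_assoc])
          right_inv := fun w => Subtype.ext (by simp [mul_assoc]) }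
    · show k * σ * k⁻¹ ∈ T
      rw [e, mul_inv_cancel_right]; exact hc
    · have h1 := hcc (k * t * k⁻¹) ht
      rw [show c = k * σ * k⁻¹ by rw [e, mul_inv_cancel_right]] at h1
      calc t * σ = k⁻¹ * ((k * t * k⁻¹) * (k * σ * k⁻¹)) * k := by group
        _ = σ * t := by rw [h1]; group
  have hzi : ∀ p, idx ((m24Of threeZ : Equiv.Perm GolayPt) p) = fn threeZ (idx p) := idx_m24Of (hA _ hz)
  have hzT : m24Of threeZ ∈ T := ⟨_, hz, rfl⟩
  have hzcen : ∀ t ∈ T, t * m24Of threeZ = m24Of threeZ * t := by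
    rintro _ ⟨b, hb, rfl⟩
    refine ext_idx fun i hi => ?_
    simp only [Subgroup.coe_mul, Equiv.Perm.mul_apply, idx_m24Of (hA b hb), hzi, idx_pt hi]
    exact hzc b hb i hi
  rcases hr with (⟨-, h⟩ | ⟨-, h⟩) | ⟨-, h⟩
  · refine Or.inl ⟨m24Of r.2 * τ, key _ fun i hi => ?_⟩
    rw [pi_eq_m24Of threeFix_ok, idx_m24Of (FixData.isAut_of_ok threeFix_ok), idx_m24Of hr2, idx_pt hi]
    exact (h i hi).symm
  · refine Or.inr (cen _ hzT hzcen (key _ fun i hi => ?_))
    rw [hzi, idx_m24Of hr2, idx_pt hi]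
    exact (h i hi).symm
  · refine Or.inr (cen (m24Of threeZ * m24Of threeZ) (mul_mem hzT hzT) (fun t ht => ?_) (key _ fun i hi => ?_))
    · exact (Commute.mul_right (hzcen t ht) (hzcen t ht)).eq
    · simp only [Subgroup.coe_mul, Equiv.Perm.mul_apply, hzi, idx_m24Of hr2, idx_pt hi]
      exact (h i hi).symm

end Cfsg.Agent.MonsterLocal
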