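import Mathlib
import Cfsg.Prelude.Def_MonsterType
import Cfsg.Agent.EqLemmas

/-!
# The wreath product of the alternating group of degree five by a group of order two

* `left`, `swapW` : a base factor and the exchange
* `exists_hom_wreath` : an injective homomorphism from a base factor and an exchanging involution
* `left_mem_of_normal` : a non-trivial normal subgroup contains a base factor
* `natCard_wreath`
-/

set_option autoImplicit false
open Cfsg
open scoped commutatorElement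

namespace Cfsg.Agent.MonsterLocal.Wreath

/-- The alternating group of degree five. -/
abbrev A5 : Type := ↥(alternatingGroup (Fin 5))

/-- The base. -/
def pairP (σ τ : A5) : Equiv.Perm (Fin 5 ⊕ Fin 5) :=
  Equiv.Perm.sumCongr (σ : Equiv.Perm (Fin 5)) (τ : Equiv.Perm (Fin 5))

/-- The exchange as a permutation. -/
def sw : Equiv.Perm (Fin 5 ⊕ Fin 5) := Equiv.sumComm (Fin 5) (Fin 5)

theorem pairP_mul (σ τ σ' τ' : A5) : pairP σ τ * pairP σ' τ' = pairP (σ * σ') (τ * τ') := by
  ext x; cases x <;> rfl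

theorem pairP_one : pairP 1 1 = 1 := by
  ext x; cases x <;> rfl

theorem pairP_inv (σ τ : A5) : (pairP σ τ)⁻¹ = pairP σ⁻¹ τ⁻¹ := by
  rw [inv_eq_iff_mul_eq_one, pairP_mul, mul_inv_cancel, mul_inv_cancel, pairP_one]

theorem sw_pairP (σ τ : A5) : sw * pairP σ τ = pairP τ σ * sw := by
  ext x; cases x <;> rfl

theorem sw_sw : sw * sw = 1 := by
  ext x; cases x <;> rfl

theorem pairP_mem (σ τ : A5) : pairP σ τ ∈ alternatingFiveWreathTwo :=
  Subgroup.subset_closure (Or.inl ⟨σ, τ, rfl⟩)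

theorem sw_mem : sw ∈ alternatingFiveWreathTwo := Subgroup.subset_closure (Or.inr rfl)

theorem pairP_eq_one {σ τ : A5} (h : pairP σ τ = 1) : σ = 1 ∧ τ = 1 := by
  constructor <;> refine Subtype.ext (Equiv.ext fun i => ?_)
  · exact Sum.inl_injective (Equiv.congr_fun h (Sum.inl i))
  · exact Sum.inr_injective (Equiv.congr_fun h (Sum.inr i))

theorem pairP_sw_ne_one (σ τ : A5) : pairP σ τ * sw ≠ 1 := fun h => by
  have := Equiv.congr_fun h (Sum.inl 0)
  simp [pairP, sw] at this

/-- The exponent of the exchange. -/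
def swp : Bool → Equiv.Perm (Fin 5 ⊕ Fin 5)
  | false => 1
  | true => sw

theorem exists_decomp {g : Equiv.Perm (Fin 5 ⊕ Fin 5)} (hg : g ∈ alternatingFiveWreathTwo) :
    ∃ σ τ : A5, g = pairP σ τ ∨ g = pairP σ τ * sw := by
  induction hg using Subgroup.closure_induction with
  | mem x hx =>
    rcases hx with ⟨σ, τ, rfl⟩ | rfl
    · exact ⟨σ, τ, Or.inl rfl⟩
    · exact ⟨1, 1, Or.inr (by rw [pairP_one, one_mul]; rfl)⟩
  | one => exact ⟨1, 1, Or.inl pairP_one.symm⟩
  | mul a b _ _ ha hb =>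
    obtain ⟨σ, τ, rfl | rfl⟩ := ha <;> obtain ⟨σ', τ', rfl | rfl⟩ := hb
    · exact ⟨_, _, Or.inl (pairP_mul _ _ _ _)⟩
    · exact ⟨_, _, Or.inr (by rw [← mul_assoc, pairP_mul])⟩
    · exact ⟨_, _, Or.inr (by rw [mul_assoc, sw_pairP, ← mul_assoc, pairP_mul])⟩
    · refine ⟨σ * τ', τ * σ', Or.inl ?_⟩
      rw [mul_assoc, ← mul_assoc sw, sw_pairP, mul_assoc, sw_sw, mul_one, pairP_mul]
  | inv a _ ha =>
    obtain ⟨σ, τ, rfl | rfl⟩ := ha
    · exact ⟨_, _, Or.inl (pairP_inv σ τ)⟩
    · exact ⟨τ⁻¹, σ⁻¹, Or.inr (by rw [mul_inv_rev, pairP_inv, inv_eq_of_mul_eq_one_right sw_sw, sw_pairP])⟩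

theorem natCard_wreath : Nat.card alternatingFiveWreathTwo = 7200 := by
  let f : (A5 × A5) × Bool → alternatingFiveWreathTwo := fun a =>
    match a with
    | ((σ, τ), false) => ⟨pairP σ τ, pairP_mem σ τ⟩
    | ((σ, τ), true) => ⟨pairP σ τ * sw, mul_mem (pairP_mem σ τ) sw_mem⟩
  have hinj : ∀ σ τ σ' τ' : A5, pairP σ τ = pairP σ' τ' → σ = σ' ∧ τ = τ' := fun σ τ σ' τ' e => by
    have h : pairP (σ⁻¹ * σ') (τ⁻¹ * τ') = 1 := by rw [← pairP_mul, ← e, pairP_mul, inv_mul_cancel, inv_mul_cancel, pairP_one]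
    exact ⟨inv_mul_eq_one.1 (pairP_eq_one h).1, inv_mul_eq_one.1 (pairP_eq_one h).2⟩
  have hmix : ∀ σ τ σ' τ' : A5, pairP σ τ ≠ pairP σ' τ' * sw := fun σ τ σ' τ' e =>
    pairP_sw_ne_one (σ⁻¹ * σ') (τ⁻¹ * τ') (by
      rw [← pairP_mul, mul_assoc, ← e, pairP_mul, inv_mul_cancel, inv_mul_cancel, pairP_one])
  have hb : Function.Bijective f := by
    refine ⟨?_, ?_⟩
    · rintro ⟨⟨σ, τ⟩, a⟩ ⟨⟨σ', τ'⟩, b⟩ e
      have e' := congrArg Subtype.val e
      cases a <;> cases b
      · obtain ⟨rfl, rfl⟩ := hinj _ _ _ _ e'; rfl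
      · exact absurd e' (hmix _ _ _ _)
      · exact absurd e'.symm (hmix _ _ _ _)
      · obtain ⟨rfl, rfl⟩ := hinj _ _ _ _ (mul_right_cancel e'); rfl
    · rintro ⟨g, hg⟩
      obtain ⟨σ, τ, rfl | rfl⟩ := exists_decomp hg
      · exact ⟨((σ, τ), false), rfl⟩
      · exact ⟨((σ, τ), true), rfl⟩
  rw [← Nat.card_congr (Equiv.ofBijective f hb), Nat.card_prod, Nat.card_prod, nat_card_alternatingGroup,
    Nat.card_fin, show Nat.card Bool = 2 by simp]
  rfl

/-- A base factor. -/
def left : A5 →* alternatingFiveWreathTwo :=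
  MonoidHom.mk' (fun σ => ⟨pairP σ 1, pairP_mem σ 1⟩) fun σ σ' =>
    Subtype.ext (by rw [Subgroup.coe_mul, pairP_mul, one_mul])

/-- The exchange. -/
def swapW : alternatingFiveWreathTwo := ⟨sw, sw_mem⟩

/-- A three-cycle. -/
def threeA : A5 := ⟨Equiv.swap 0 1 * Equiv.swap 1 2, Equiv.Perm.mem_alternatingGroup.2 (by decide)⟩

/-- Another three-cycle. -/
def threeB : A5 := ⟨Equiv.swap 1 2 * Equiv.swap 2 3, Equiv.Perm.mem_alternatingGroup.2 (by decide)⟩

theorem threeA_zero : (threeA : Equiv.Perm (Fin 5)) 0 ≠ 0 := by decide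

theorem eq_one_of_central {N : Type*} [Group N] {f : A5 →* N} (hf : f ≠ 1) {σ : A5}
    (h : ∀ a, f σ * f a = f a * f σ) : σ = 1 := by
  haveI : IsSimpleGroup A5 := alternatingGroup.isSimpleGroup (by simp)
  have hinj : Function.Injective f := by
    rw [← MonoidHom.ker_eq_bot_iff]
    refine (f.normal_ker.eq_bot_or_eq_top).resolve_right fun e => hf ?_
    exact MonoidHom.ext fun a => (MonoidHom.mem_ker (f := f)).1 (e ▸ Subgroup.mem_top a)
  have hc : σ ∈ Subgroup.center A5 := Subgroup.mem_center_iff.2 fun a =>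
    hinj (by rw [map_mul, map_mul, h])
  rcases (inferInstance : (Subgroup.center A5).Normal).eq_bot_or_eq_top with e | e
  · rwa [e, Subgroup.mem_bot] at hc
  · exfalso
    have h2 : ∀ a b : A5, a * b = b * a := fun a b =>
      Subgroup.mem_center_iff.1 (e ▸ Subgroup.mem_top b : b ∈ Subgroup.center A5) a
    have h3 := congrArg (fun g : A5 => (g : Equiv.Perm (Fin 5)) 0)
      (h2 threeA threeB)
    revert h3
    decide

/-- The homomorphism of a base factor and an exchanging involution. -/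
theorem exists_hom_wreath {X : Type*} [Group X] (f : A5 →* X) (t : X) (ht : t * t = 1)
    (hcomm : ∀ a b, f a * (t * f b * t) = t * f b * t * f a) (hf : f ≠ 1) :
    ∃ ψ : alternatingFiveWreathTwo →* X, Function.Injective ψ ∧ ∀ a, ψ (left a) = f a := by
  classical
  let f2 : A5 →* X := MonoidHom.mk' (fun a => t * f a * t) fun a b => by
    rw [map_mul]
    calc t * (f a * f b) * t = t * f a * (t * t) * f b * t := by rw [ht, mul_one]; group
      _ = t * f a * t * (t * f b * t) := by group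
  let val : A5 → A5 → Bool → X := fun σ τ e => f σ * f2 τ * bif e then t else 1
  have hbase : ∀ σ τ σ' τ' : A5, f σ * f2 τ * (f σ' * f2 τ') = f (σ * σ') * f2 (τ * τ') := fun σ τ σ' τ' => by
    rw [map_mul, map_mul]
    calc f σ * f2 τ * (f σ' * f2 τ') = f σ * (f2 τ * f σ') * f2 τ' := by group
      _ = f σ * (f σ' * f2 τ) * f2 τ' := by rw [show f2 τ * f σ' = f σ' * f2 τ from (hcomm σ' τ).symm]
      _ = _ := by group
  have hsw : ∀ σ τ : A5, t * (f σ * f2 τ) = f τ * f2 σ * t := fun σ τ => by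
    show t * (f σ * (t * f τ * t)) = f τ * (t * f σ * t) * t
    calc t * (f σ * (t * f τ * t)) = (t * f σ * t) * f τ * t := by group
      _ = f τ * (t * f σ * t) * t := by rw [← hcomm τ σ]
  let S : Subgroup (X × alternatingFiveWreathTwo) :=
    { carrier := {p | ∃ σ τ e, p.1 = val σ τ e ∧ (p.2 : Equiv.Perm (Fin 5 ⊕ Fin 5)) = pairP σ τ * swp e}
      one_mem' := ⟨1, 1, false, by simp [val], by simp [pairP_one, swp]⟩
      mul_mem' := by
        rintro p q ⟨σ, τ, a, hp1, hp2⟩ ⟨σ', τ', b, hq1, hq2⟩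
        cases a
        · refine ⟨σ * σ', τ * τ', b, ?_, ?_⟩
          · rw [Prod.fst_mul, hp1, hq1]
            simp only [val, cond_false, mul_one, ← mul_assoc]
            rw [mul_assoc (f σ * f2 τ), hbase]
          · rw [Prod.snd_mul, Subgroup.coe_mul, hp2, hq2, swp, mul_one, ← mul_assoc, pairP_mul]
        · refine ⟨σ * τ', τ * σ', !b, ?_, ?_⟩
          · rw [Prod.fst_mul, hp1, hq1]
            simp only [val, cond_true]
            rw [mul_assoc (f σ * f2 τ) t, ← mul_assoc t, hsw, mul_assoc (f τ' * f2 σ') t, ← mul_assoc,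
              hbase]
            cases b <;> simp [ht]
          · rw [Prod.snd_mul, Subgroup.coe_mul, hp2, hq2]
            show pairP σ τ * sw * (pairP σ' τ' * swp b) = _
            rw [mul_assoc (pairP σ τ) sw, ← mul_assoc sw, sw_pairP, mul_assoc (pairP τ' σ') sw, ← mul_assoc,
              pairP_mul]
            cases b <;> simp [swp, sw_sw]
      inv_mem' := by
        rintro p ⟨σ, τ, a, hp1, hp2⟩
        cases a
        · refine ⟨σ⁻¹, τ⁻¹, false, ?_, ?_⟩
          · rw [Prod.fst_inv, hp1]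
            simp only [val, cond_false, mul_one]
            refine inv_eq_of_mul_eq_one_right ?_
            rw [hbase, mul_inv_cancel, mul_inv_cancel, map_one, map_one, one_mul]
          · rw [Prod.snd_inv, Subgroup.coe_inv, hp2, swp, mul_one, pairP_inv, mul_one]
        · refine ⟨τ⁻¹, σ⁻¹, true, ?_, ?_⟩
          · rw [Prod.fst_inv, hp1]
            simp only [val, cond_true]
            refine inv_eq_of_mul_eq_one_right ?_
            rw [mul_assoc (f σ * f2 τ) t, ← mul_assoc t, hsw, mul_assoc (f σ⁻¹ * f2 τ⁻¹) t, ht, mul_one,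
              hbase, mul_inv_cancel, mul_inv_cancel, map_one, map_one, one_mul]
          · rw [Prod.snd_inv, Subgroup.coe_inv, hp2, swp, mul_inv_rev, pairP_inv,
              inv_eq_of_mul_eq_one_right sw_sw, sw_pairP] }
  let pr : S →* alternatingFiveWreathTwo := (MonoidHom.snd _ _).comp S.subtype
  have hprs : Function.Surjective pr := by
    rintro ⟨g, hg⟩
    obtain ⟨σ, τ, rfl | rfl⟩ := exists_decomp hg
    · exact ⟨⟨(val σ τ false, ⟨_, hg⟩), σ, τ, false, rfl, (mul_one _).symm⟩, rfl⟩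
    · exact ⟨⟨(val σ τ true, ⟨_, hg⟩), σ, τ, true, rfl, rfl⟩, rfl⟩
  have hpri : Function.Injective pr := (injective_iff_map_eq_one pr).2 fun p hp => by
    obtain ⟨σ, τ, e, h1, h2⟩ := p.2
    have h3 : (p.1.2 : Equiv.Perm (Fin 5 ⊕ Fin 5)) = 1 := congrArg Subtype.val hp
    rw [h3] at h2
    cases e
    · rw [swp, mul_one] at h2
      obtain ⟨rfl, rfl⟩ := pairP_eq_one h2.symm
      exact Subtype.ext (Prod.ext (by rw [h1]; simp [val]) hp)
    · exact absurd h2.symm (pairP_sw_ne_one σ τ)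
  let eqv : S ≃* alternatingFiveWreathTwo := MulEquiv.ofBijective pr ⟨hpri, hprs⟩
  let ψ : alternatingFiveWreathTwo →* X := ((MonoidHom.fst _ _).comp S.subtype).comp eqv.symm.toMonoidHom
  refine ⟨ψ, (injective_iff_map_eq_one ψ).2 fun g hg => ?_, fun a => ?_⟩
  · obtain ⟨p, rfl⟩ := eqv.surjective g
    have hp : p.1.1 = 1 := by simpa [ψ] using hg
    obtain ⟨σ, τ, e, h1, h2⟩ := p.2
    rw [hp] at h1
    cases e
    · simp only [val, cond_false, mul_one] at h1
      have hσ : σ = 1 := eq_one_of_central hf fun a => by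
        rw [eq_inv_of_mul_eq_one_left h1.symm]
        exact (Commute.inv_left (show Commute (f2 τ) (f a) from (hcomm a τ).symm)).eq
      subst hσ
      rw [map_one, one_mul] at h1
      have hτ : τ = 1 := eq_one_of_central hf fun a => by
        have : f τ = 1 := by
          calc f τ = t * (t * f τ * t) * t := by
                rw [show t * (t * f τ * t) * t = (t * t) * f τ * (t * t) by group, ht, one_mul, mul_one]
            _ = t * t := by rw [show t * f τ * t = 1 from h1.symm, mul_one]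
            _ = 1 := ht
        rw [this, one_mul, mul_one]
      subst hτ
      rw [MulEquiv.map_eq_one_iff]
      refine Subtype.ext (Prod.ext hp (Subtype.ext ?_))
      rw [h2, pairP_one, swp, one_mul]
      rfl
    · exfalso
      simp only [val, cond_true] at h1
      have hti : t = (f σ * f2 τ)⁻¹ := eq_inv_of_mul_eq_one_right h1.symm
      refine hf (MonoidHom.ext fun b => ?_)
      have h4 : t * f b * t = f (σ⁻¹ * b * σ) := by
        conv_lhs => arg 2; rw [← inv_eq_of_mul_eq_one_right ht, hti, inv_inv]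
        conv_lhs => rw [hti, mul_inv_rev]
        calc (f2 τ)⁻¹ * (f σ)⁻¹ * f b * (f σ * f2 τ) = (f2 τ)⁻¹ * f (σ⁻¹ * b * σ) * f2 τ := by
              simp only [map_mul, map_inv]; group
          _ = f (σ⁻¹ * b * σ) := by
              rw [mul_assoc, show f (σ⁻¹ * b * σ) * f2 τ = f2 τ * f (σ⁻¹ * b * σ) from hcomm _ τ,
                inv_mul_cancel_left]
      have hb : σ⁻¹ * b * σ = 1 := eq_one_of_central hf fun a => by
        rw [← h4]; exact (hcomm a b).symm
      rw [show b = 1 by rw [show b = σ * (σ⁻¹ * b * σ) * σ⁻¹ by group, hb]; simp, map_one]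
      rfl
  · have : eqv.symm (left a) = ⟨(val a 1 false, left a), a, 1, false, rfl, (mul_one _).symm⟩ :=
      (MulEquiv.symm_apply_eq _).2 rfl
    show (MonoidHom.fst _ _) ((eqv.symm (left a) : S) : X × alternatingFiveWreathTwo) = f a
    rw [this]
    simp [val]

/-- A non-trivial normal subgroup contains the first base factor. -/
theorem left_mem_of_normal {N : Subgroup alternatingFiveWreathTwo} (hN : N.Normal) (h : N ≠ ⊥) (a : A5) :
    left a ∈ N := by
  haveI : IsSimpleGroup A5 := alternatingGroup.isSimpleGroup (by simp)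
  haveI := hN
  let R : A5 →* alternatingFiveWreathTwo := (MulAut.conj swapW).toMonoidHom.comp left
  have hR : ∀ b, (R b : Equiv.Perm (Fin 5 ⊕ Fin 5)) = pairP 1 b := fun b => by
    show sw * pairP b 1 * sw⁻¹ = _
    rw [sw_pairP, mul_assoc, mul_inv_cancel, mul_one]
  rcases (inferInstance : (N.comap left).Normal).eq_bot_or_eq_top with e | e
  swap
  · exact Subgroup.mem_comap.1 (e ▸ Subgroup.mem_top a : a ∈ N.comap left)
  exfalso
  obtain ⟨g, hg, hg1⟩ : ∃ g ∈ N, g ≠ 1 := by
    by_contra! h0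
    exact h (N.eq_bot_iff_forall.2 h0)
  have hcomL : ∀ b, g * left b = left b * g ∨ (∃ c : A5, c ≠ 1 ∧ ∃ d : A5,
      ((⁅g, left b⁆ : alternatingFiveWreathTwo) : Equiv.Perm (Fin 5 ⊕ Fin 5)) = pairP c d) := by
    intro b
    obtain ⟨σ, τ, he | he⟩ := exists_decomp g.2
    · by_cases hb : σ * b = b * σ
      · refine Or.inl (Subtype.ext ?_)
        show (g : Equiv.Perm (Fin 5 ⊕ Fin 5)) * pairP b 1 = pairP b 1 * g
        rw [he, pairP_mul, pairP_mul, hb, mul_one, one_mul]
      · refine Or.inr ⟨⁅σ, b⁆, fun e' => hb (commutatorElement_eq_one_iff_mul_comm.1 e'), 1, ?_⟩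
        show (g : Equiv.Perm (Fin 5 ⊕ Fin 5)) * pairP b 1 * (g : Equiv.Perm (Fin 5 ⊕ Fin 5))⁻¹ * (pairP b 1)⁻¹ = _
        rw [he, pairP_inv, pairP_inv, pairP_mul, pairP_mul, pairP_mul, commutatorElement_def]
        simp
    · by_cases hb : b = 1
      · subst hb; exact Or.inl (by rw [map_one, mul_one, one_mul])
      · refine Or.inr ⟨b⁻¹, by simpa using hb, τ * b * τ⁻¹, ?_⟩
        show (g : Equiv.Perm (Fin 5 ⊕ Fin 5)) * pairP b 1 * (g : Equiv.Perm (Fin 5 ⊕ Fin 5))⁻¹ * (pairP b 1)⁻¹ = _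
        rw [he, mul_inv_rev, mul_assoc (pairP σ τ) sw, sw_pairP, ← mul_assoc (pairP σ τ), pairP_mul,
          mul_assoc (pairP _ _) sw, ← mul_assoc sw, mul_inv_cancel, one_mul, pairP_inv, pairP_inv, pairP_mul,
          pairP_mul]
        simp
  -- an element of the base lying in `N`
  obtain ⟨c, d, hcd, hne⟩ : ∃ c d : A5, (∃ x ∈ N, (x : Equiv.Perm (Fin 5 ⊕ Fin 5)) = pairP c d) ∧
      ¬ (c = 1 ∧ d = 1) := by
    by_cases hall : ∀ b, g * left b = left b * g
    · obtain ⟨σ, τ, he | he⟩ := exists_decomp g.2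
      · refine ⟨σ, τ, ⟨g, hg, he⟩, fun h2 => hg1 (Subtype.ext ?_)⟩
        rw [he, h2.1, h2.2, pairP_one]
        rfl
      · exfalso
        have h0 := congrArg Subtype.val (hall threeA)
        have h2 := Equiv.congr_fun h0 (Sum.inl 0)
        simp only [Subgroup.coe_mul, he, left, MonoidHom.mk'_apply, Equiv.Perm.mul_apply, sw, pairP,
          Equiv.Perm.sumCongr_apply, Sum.map_inr, Equiv.sumComm_apply, Sum.swap_inr, Sum.map_inl, Sum.swap_inl,
          OneMemClass.coe_one, Equiv.Perm.one_apply] at h2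
        exact threeA_zero ((τ : Equiv.Perm (Fin 5)).injective (Sum.inr_injective h2))
    · push Not at hall
      obtain ⟨b, hb⟩ := hall
      obtain ⟨c, hc, d, he⟩ := (hcomL b).resolve_left hb
      exact ⟨c, d, ⟨_, by
        rw [commutatorElement_def, mul_assoc, mul_assoc, ← mul_assoc (left b)]
        exact mul_mem hg (hN.conj_mem _ (inv_mem hg) _), he⟩, fun h2 => hc h2.1⟩
  have key : ∀ (x : alternatingFiveWreathTwo) (c d : A5), x ∈ N →
      (x : Equiv.Perm (Fin 5 ⊕ Fin 5)) = pairP c d → c = 1 := by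
    intro x c d hx hxe
    refine eq_one_of_central (f := MonoidHom.id A5) (fun e' => ?_) fun b => ?_
    · have := DFunLike.congr_fun e' threeA
      have h2 := congrArg (fun g : A5 => (g : Equiv.Perm (Fin 5)) 0) this
      simp at h2
      revert h2; decide
    · have hm : ⁅c, b⁆ ∈ N.comap left := by
        rw [Subgroup.mem_comap]
        have : left ⁅c, b⁆ = ⁅x, left b⁆ := Subtype.ext (by
          show pairP ⁅c, b⁆ 1 = (x : Equiv.Perm (Fin 5 ⊕ Fin 5)) * pairP b 1 *
            (x : Equiv.Perm (Fin 5 ⊕ Fin 5))⁻¹ * (pairP b 1)⁻¹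
          rw [hxe, pairP_inv, pairP_inv, pairP_mul, pairP_mul, pairP_mul, commutatorElement_def]
          simp)
        rw [this, commutatorElement_def, mul_assoc, mul_assoc, ← mul_assoc (left b)]
        exact mul_mem hx (hN.conj_mem _ (inv_mem hx) _)
      rw [e, Subgroup.mem_bot, commutatorElement_eq_one_iff_mul_comm] at hm
      exact hm
  obtain ⟨x, hx, hxe⟩ := hcd
  refine hne ⟨key x c d hx hxe, key (swapW * x * swapW⁻¹) d c (hN.conj_mem x hx _) ?_⟩
  show sw * (x : Equiv.Perm (Fin 5 ⊕ Fin 5)) * sw⁻¹ = _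
  rw [hxe, sw_pairP, mul_assoc, mul_inv_cancel, mul_one]

end Cfsg.Agent.MonsterLocal.Wreath
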