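import Cfsg.Agent.Lib.MonsterLocal.Local
import Cfsg.Agent.Lib.MonsterLocal.Perms
import Cfsg.Agent.Lib.MonsterLocal.Wreath
import Cfsg.Agent.Lib.AltPresent.Carmichael

/-!
# Five and three

* `exists_theta` : the centraliser in the first Conway group from an embedded group of the right order
* `five_theta`, `three_theta`
-/

set_option autoImplicit false
set_option maxRecDepth 100000
open Cfsg
open scoped Matrix

namespace Cfsg.Agent.MonsterLocal

open Monster MonsterLattice AltPresent

namespace FixData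

/-- The image of the permutation. -/
noncomputable def piN (D : FixData) : Subgroup D.cen1 :=
  (Subgroup.zpowers (bar (permHom D.pi))).subgroupOf D.cen1

instance piN_normal (D : FixData) : D.piN.Normal := by
  refine ⟨fun a ha g => ?_⟩
  obtain ⟨n, hn⟩ := Subgroup.mem_subgroupOf.1 ha
  have h : Commute (g : Spor.Co1) (bar (permHom D.pi)) := Subgroup.mem_centralizer_singleton_iff.1 g.2
  refine Subgroup.mem_subgroupOf.2 ⟨n, ?_⟩
  simp only at hn
  simp only [Subgroup.coe_mul, Subgroup.coe_inv]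
  rw [← hn, (h.zpow_right n).eq, mul_inv_cancel_right]

variable {D : FixData}

theorem fixed_basisV (h : D.ok = true) {k : ℕ} (hk : k < 8) :
    permHom D.pi • D.basisV k = D.basisV k := by
  have hb : D.basisV k = D.comb (2 ^ k) := by
    rw [FixData.comb, Finset.sum_eq_single k]
    · rw [Nat.testBit_two_pow_self, if_pos rfl]
    · intro j _ hj
      rw [if_neg (by simp [Nat.testBit_two_pow, Ne.symm hj])]
    · exact fun hn => absurd (Finset.mem_range.2 hk) hn
  rw [hb, fixed_comb h]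

theorem not_mem_piN (h : D.ok = true) {g : Co0} (hg : g ∈ D.cen0) {k : ℕ} (hk : k < 8)
    (hmove : ¬ Cg (g • D.basisV k) (D.basisV k)) :
    (QuotientGroup.mk' D.piN ⟨bar g, D.bar_mem_cen1 hg⟩) ≠ 1 := by
  intro e
  obtain ⟨n, hn⟩ := Subgroup.mem_subgroupOf.1 ((QuotientGroup.eq_one_iff (N := D.piN) _).1 e)
  have hfix : (permHom D.pi ^ n) • D.basisV k = D.basisV k :=
    MulAction.mem_stabilizer_iff.1 (zpow_mem (MulAction.mem_stabilizer_iff.2 (fixed_basisV h hk) :
      permHom D.pi ∈ MulAction.stabilizer Co0 (D.basisV k)) n)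
  have h7 : bar g = bar (permHom D.pi ^ n) := by rw [map_zpow]; exact hn.symm
  obtain ⟨c, hc, he⟩ := (QuotientGroup.mk'_eq_mk' _).1 h7
  refine hmove ?_
  rcases Leech.center_eq hc with rfl | rfl
  · rw [mul_one] at he
    rw [he, hfix]; exact cg_refl _
  · have : g = permHom D.pi ^ n * Leech.negOne := by rw [← he, mul_assoc, negOne_mul_self, mul_one]
    rw [this, mul_smul, Leech.negOne_smul, Leech.smul_vneg, hfix]
    exact (Cg.neg _).symm

theorem orderOf_bar (h : D.ok = true) (hp : D.p.Prime) : orderOf (bar (permHom D.pi)) = D.p := by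
  haveI : Fact D.p.Prime := ⟨hp⟩
  refine orderOf_eq_prime (by rw [← map_pow, ← map_pow, pi_pow_p h, map_one, map_one]) fun e => ?_
  have hs : permHom D.pi ∈ signs := by
    rcases bar_eq_one.1 e with e' | e' <;> rw [e']
    · exact one_mem _
    · exact fun i => Or.inr (Leech.negOne_smul _)
  have := orderOf_pi h hp
  rw [permHom_disjoint hs, orderOf_one] at this
  exact hp.ne_one this.symm

/-- The group from an embedded group of the right order. -/
theorem exists_theta (h : D.ok = true) (hp : D.p.Prime) {T : Type*} [Group T] [Finite T]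
    (ψ : T →* D.cen1 ⧸ D.piN) (hψ : Function.Injective ψ) (hlt : Nat.card D.cen0 < 4 * D.p * Nat.card T) :
    ∃ θ : D.cen1 →* T, Function.Surjective θ ∧
      (∀ a, θ a = 1 ↔ (a : Spor.Co1) ∈ Subgroup.zpowers (bar (permHom D.pi))) ∧
      ∀ t a, ψ t = QuotientGroup.mk' D.piN a → θ a = t := by
  haveI : Finite Co0 := finite_co0
  have hN : Nat.card D.piN = D.p := by
    have hle : Subgroup.zpowers (bar (permHom D.pi)) ≤ D.cen1 := by
      rw [Subgroup.zpowers_le]
      exact Subgroup.mem_centralizer_singleton_iff.2 rfl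
    rw [piN, Nat.card_congr (Subgroup.subgroupOfEquivOfLe hle).toEquiv, Nat.card_zpowers, orderOf_bar h hp]
  have hq := Subgroup.card_eq_card_quotient_mul_card_subgroup D.piN
  rw [hN] at hq
  have h2 := two_mul_natCard_cen1 h
  obtain ⟨c, hc⟩ := Nat.card_congr (MonoidHom.ofInjective hψ).toEquiv ▸ ψ.range.card_subgroup_dvd_card
  have hc2 : c < 2 := by
    by_contra hge
    have : 4 * D.p * Nat.card T ≤ Nat.card D.cen0 := by
      rw [← h2, hq, hc]
      calc 4 * D.p * Nat.card T = 2 * (Nat.card T * 2 * D.p) := by ring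
        _ ≤ 2 * (Nat.card T * c * D.p) :=
          Nat.mul_le_mul le_rfl (Nat.mul_le_mul (Nat.mul_le_mul le_rfl (not_lt.1 hge)) le_rfl)
    omega
  have hb : Function.Bijective ψ := by
    refine hψ.bijective_of_nat_card_le ?_
    rw [hc]
    calc Nat.card T * c ≤ Nat.card T * 1 := Nat.mul_le_mul_left _ (by omega)
      _ = Nat.card T := mul_one _
  let e := MulEquiv.ofBijective ψ hb
  refine ⟨e.symm.toMonoidHom.comp (QuotientGroup.mk' D.piN), e.symm.surjective.comp (QuotientGroup.mk'_surjective _),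
    fun a => ?_, fun t a ha => ?_⟩
  · show e.symm (QuotientGroup.mk a) = 1 ↔ _
    rw [EmbeddingLike.map_eq_one_iff, QuotientGroup.eq_one_iff]
    exact Subgroup.mem_subgroupOf
  · show e.symm (QuotientGroup.mk' D.piN a) = t
    rw [← ha]; exact e.symm_apply_apply t

end FixData

variable {D : FixData}

theorem sq_mul_comm {G : Type*} [Group G] {a b : G} (h : (a * b) ^ 2 = 1) : (b * a) ^ 2 = 1 := by
  calc (b * a) ^ 2 = a⁻¹ * (a * b) ^ 2 * a := by rw [pow_two, pow_two]; group
    _ = 1 := by rw [h]; group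

/-- The generators in the quotient. -/
theorem carmichael_rels (h : D.ok = true) (X : List MatData) (X0 : MatData) (k : ℕ)
    (hgood : ∀ i < k, (X.getD i X0).good D.code = true)
    (hcube : ∀ i < k, prodCheck 1 (X.getD i X0).L (X.getD i X0).T (X.getD i X0).T eightI = true)
    (hpair : ∀ i < k, ∀ j < k, i < j →
      prodCheck (-1) (X.getD i X0).L (X.getD j X0).T (X.getD j X0).T (X.getD i X0).L = true)
    (ξ : Fin k → D.cen1 ⧸ D.piN)
    (hξ : ∀ i : Fin k, ξ i = QuotientGroup.mk' D.piN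
      ⟨bar (X.getD i X0).el, D.bar_mem_cen1 (MatData.el_mem_cen0 D h (hgood i i.2))⟩) :
    (∀ i, ξ i ^ 3 = 1) ∧ ∀ i j, i ≠ j → (ξ i * ξ j) ^ 2 = 1 := by
  refine ⟨fun i => ?_, fun i j hij => ?_⟩
  · rw [hξ, ← map_pow]
    convert map_one (QuotientGroup.mk' D.piN)
    refine Subtype.ext ?_
    show bar (X.getD i X0).el ^ 3 = 1
    rw [← map_pow, MatData.cube_eq_one (hgood i i.2) toMat_eightI (hcube i i.2), map_one]
  · have key : ∀ a b : Fin k, a.val < b.val → (ξ a * ξ b) ^ 2 = 1 := by
      intro a b hab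
      rw [hξ, hξ, ← map_mul, ← map_pow]
      convert map_one (QuotientGroup.mk' D.piN)
      refine Subtype.ext ?_
      show (bar (X.getD a X0).el * bar (X.getD b X0).el) ^ 2 = 1
      rw [← map_mul, ← map_pow, MatData.sq_mul_eq_negOne (hgood a a.2) (hgood b b.2) (hpair a a.2 b b.2 hab)]
      exact bar_eq_one.2 (Or.inr rfl)
    rcases Nat.lt_or_ge i.val j.val with hlt | hge
    · exact key i j hlt
    · have hlt : j.val < i.val := lt_of_le_of_ne hge fun e => hij (Fin.ext e.symm)
      exact sq_mul_comm (key j i hlt)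

theorem barPerm_injective : Function.Injective (bar.comp permHom) := by
  refine (injective_iff_map_eq_one _).2 fun σ h => permHom_disjoint ?_
  rcases bar_eq_one.1 h with e | e <;> rw [e]
  · exact one_mem _
  · exact fun i => Or.inr (Leech.negOne_smul _)

/-- An element whose permutation part centralises a Sylow subgroup lies in the centre of one. -/
theorem exists_central_sylow {G : Type*} [Group G] [Finite G] {Q : Subgroup G} {z : G}
    (M : Setting Q z) {s : G} (hs : M.rel (Leech.eightVec none) s) {y : G}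
    (hy : y ∈ Subgroup.centralizer ({z, s} : Set G)) (hord : orderOf y = 3) {σ : M24}
    (hκ : M.κ ⟨y, joint_le hy⟩ = bar (permHom σ)) {T : Subgroup M24} (hT : Nat.card T = 27) (hσT : σ ∈ T)
    (hTc : ∀ t ∈ T, t * σ = σ * t) :
    ∃ P : Sylow 3 ↥(Subgroup.centralizer ({z, s} : Set G)),
      (Subgroup.zpowers y).subgroupOf (Subgroup.centralizer ({z, s} : Set G)) ≤
        (Subgroup.center ↥(P : Subgroup ↥(Subgroup.centralizer ({z, s} : Set G)))).map
          (P : Subgroup ↥(Subgroup.centralizer ({z, s} : Set G))).subtype := by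
  haveI : Fact (Nat.Prime 3) := ⟨by norm_num⟩
  let L := Subgroup.centralizer ({z, s} : Set G)
  let f : M24 →* Spor.Co1 := bar.comp permHom
  let g : L →* Spor.Co1 := M.κ.comp (Subgroup.inclusion joint_le)
  let X : Subgroup L := (T.map f).comap g
  let yL : L := ⟨y, hy⟩
  have hyX : yL ∈ X := ⟨σ, hσT, hκ.symm⟩
  have hXT : X.map g = T.map f := by
    refine le_antisymm (Subgroup.map_comap_le _ _) ?_
    rintro _ ⟨t, ht, rfl⟩
    obtain ⟨x, hx, he⟩ := exists_lift_perm M hs t
    exact ⟨⟨x, hx⟩, ⟨t, ht, he.symm⟩, he⟩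
  have h27 : 27 ∣ Nat.card X := by
    have h := Subgroup.card_map_dvd X g
    rwa [hXT, Subgroup.card_map_of_injective barPerm_injective, hT] at h
  have hzp : IsPGroup 3 (Subgroup.zpowers (⟨yL, hyX⟩ : X)) :=
    IsPGroup.of_card (n := 1) (by rw [Nat.card_zpowers, Subgroup.orderOf_mk, Subgroup.orderOf_mk, hord, pow_one])
  obtain ⟨P, hP⟩ := hzp.exists_le_sylow
  have hP27 : 27 ∣ Nat.card P := Sylow.pow_dvd_card_of_pow_dvd_card (n := 3) P h27
  let U : Subgroup L := (P : Subgroup X).map X.subtype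
  have hU : IsPGroup 3 U := P.2.map _
  have hUc : Nat.card U = Nat.card P := Subgroup.card_map_of_injective Subtype.val_injective
  have hfac : (Nat.card L).factorization 3 = 3 := by
    have hge : 3 ^ 3 ∣ Nat.card L := h27.trans (Subgroup.card_subgroup_dvd_card X)
    obtain ⟨S⟩ : Nonempty (Sylow 3 L) := inferInstance
    have hd := card_pgroup_dvd M hs (by decide) S.2
    rw [Sylow.card_eq_multiplicity] at hd
    refine le_antisymm ?_ ((Nat.Prime.pow_dvd_iff_le_factorization (by norm_num) Nat.card_pos.ne').1 hge)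
    by_contra! hv
    exact absurd ((pow_dvd_pow 3 hv).trans hd) (by norm_num)
  have hU27 : Nat.card U = 3 ^ (Nat.card L).factorization 3 := by
    refine Nat.dvd_antisymm ?_ (by rw [hUc, hfac]; exact hP27)
    obtain ⟨S, hS⟩ := hU.exists_le_sylow
    rw [← Sylow.card_eq_multiplicity S]
    exact Subgroup.card_dvd_of_le hS
  refine ⟨Sylow.ofCard U hU27, ?_⟩
  have hyU : yL ∈ U := ⟨⟨yL, hyX⟩, hP (Subgroup.mem_zpowers _), rfl⟩
  have hcen : (⟨yL, hyU⟩ : U) ∈ Subgroup.center U := by
    refine Subgroup.mem_center_iff.2 fun a => ?_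
    obtain ⟨⟨b, hb⟩, -, hba⟩ := a.2
    obtain ⟨t, ht, hte⟩ := hb
    have hbU : b ∈ U := (show b = (a : L) from hba) ▸ a.2
    obtain ⟨n, hn⟩ := hU (⟨b, hbU⟩ * ⟨yL, hyU⟩ * (⟨yL, hyU⟩ * ⟨b, hbU⟩)⁻¹)
    have hk : g (b * yL * (yL * b)⁻¹) = 1 := by
      rw [map_mul, map_inv, map_mul, map_mul, ← hte, show g yL = f σ from hκ, ← map_mul, ← map_mul, hTc t ht,
        mul_inv_cancel]
    have h1 := κ_inj_of_pow M ((show Odd 3 by decide).pow (n := n)) hk
      (congrArg (fun w : U => ((w : L) : G)) hn)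
    have h2 : b * yL = yL * b := mul_inv_eq_one.1 (Subtype.ext h1)
    exact Subtype.ext (by show (a : L) * yL = yL * a; rw [← show b = (a : L) from hba]; exact h2)
  intro a ha
  obtain ⟨n, hn⟩ := ha
  refine ⟨(⟨yL, hyU⟩ : U) ^ n, zpow_mem hcen n, ?_⟩
  show U.subtype ((⟨yL, hyU⟩ : U) ^ n) = a
  rw [map_zpow]
  exact Subtype.ext (by simpa using hn)

theorem five_bound : Nat.card fiveFix.cen0 ≤ 96000 := by
  refine (FixData.natCard_cen0_le fiveFix_ok).trans ?_
  rw [fiveFix_words]
  calc fiveFix.cnt * (16 * Nat.card {σ : M24 // σ * fiveFix.pi = fiveFix.pi * σ}) ≤ 75 * (16 * 80) :=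
        Nat.mul_le_mul (le_of_eq rfl) (Nat.mul_le_mul_left _ five_cen_le)
    _ = 96000 := by norm_num

theorem three_bound : Nat.card threeFix.cen0 ≤ 1088640 := by
  refine (FixData.natCard_cen0_le threeFix_ok).trans ?_
  rw [threeFix_words]
  calc threeFix.cnt * (16 * Nat.card {σ : M24 // σ * threeFix.pi = threeFix.pi * σ}) ≤ 135 * (16 * 504) :=
        Nat.mul_le_mul (le_of_eq rfl) (Nat.mul_le_mul_left _ three_cen_le)
    _ = 1088640 := by norm_num

theorem moved_of_check {X0 : MatData} {y : List ℤ} (h : D.ok = true) (hX : X0.good D.code = true)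
    (hy : (Leech.inLatL y && decide ((D.basis.getD 0 []).length = 24) &&
      (X0.L.map fun r => Leech.dotL r (D.basis.getD 0 [])) == y.map (8 * ·) &&
      decide (((Leech.dotL y (D.duals.getD 0 [])) / 8) % 2 = 0)) = true) :
    ¬ Cg (X0.el • D.basisV 0) (D.basisV 0) := by
  simp only [Bool.and_eq_true, decide_eq_true_eq] at hy
  obtain ⟨⟨⟨hy1, hy2⟩, hy3⟩, hy4⟩ := hy
  obtain ⟨hb, hd, -⟩ := FixData.basis_ok h (show 0 < 8 by norm_num)
  rw [show D.basisV 0 = latV (D.basis.getD 0 []) from rfl,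
    MatData.el_smul hX hb hy1 (by rw [Bool.and_eq_true, decide_eq_true_eq]; exact ⟨hy2, hy3⟩)]
  refine not_cg_of_pr D (l := 0) ?_
  rw [show D.pr 0 (latV (D.basis.getD 0 [])) = 1 from (FixData.pr_basis h (by norm_num) (by norm_num)).trans (if_pos rfl)]
  have hlen : (D.duals.getD 0 []).length = 24 := by
    cases hD : D.duals.getD 0 [] with
    | nil => rw [hD] at hd; simp [Leech.inLatL] at hd
    | cons x m =>
      rw [hD] at hd
      simp only [Leech.inLatL, Bool.and_eq_true, beq_iff_eq] at hd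
      exact hd.1.1
  rw [FixData.pr, coe_latV hy1, coe_latV hd]
  have e : dotInt (Leech.vOf y) (Leech.vOf (D.duals.getD 0 [])) = Leech.dotL y (D.duals.getD 0 []) := by
    rw [← Leech.vOf_dotProduct _ hlen]
    rfl
  rw [e, show ((Leech.dotL y (D.duals.getD 0 []) / 8 : ℤ) : ZMod 2) = 0 from
    (ZMod.intCast_zmod_eq_zero_iff_dvd _ 2).2 (Int.dvd_of_emod_eq_zero hy4)]
  exact zero_ne_one

theorem three_theta : ∃ (θ : threeFix.cen1 →* alternatingGroup (Fin 9)) (g0 : Co0) (hg0 : g0 ∈ threeFix.cen0),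
    Function.Surjective θ ∧
    (∀ a, θ a = 1 ↔ (a : Spor.Co1) ∈ Subgroup.zpowers (bar (permHom threeFix.pi))) ∧
    ¬ Cg (g0 • threeFix.basisV 0) (threeFix.basisV 0) ∧
    θ ⟨bar g0, threeFix.bar_mem_cen1 hg0⟩ ^ 3 = 1 ∧
    ∀ N : Subgroup (alternatingGroup (Fin 9)), N.Normal → N ≠ ⊥ → θ ⟨bar g0, threeFix.bar_mem_cen1 hg0⟩ ∈ N := by
  have hok := threeFix_ok
  have hgood : ∀ i < 7, (threeX.getD i threeX0).good threeFix.code = true := fun i hi =>
    List.all_eq_true.1 threeX_good _ (by rw [List.getD_eq_getElem _ _ (show i < threeX.length from hi)]; exact List.getElem_mem _)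
  have hcube : ∀ i < 7, prodCheck 1 (threeX.getD i threeX0).L (threeX.getD i threeX0).T (threeX.getD i threeX0).T eightI = true :=
    fun i hi => List.all_eq_true.1 threeX_cube _ (by rw [List.getD_eq_getElem _ _ (show i < threeX.length from hi)]; exact List.getElem_mem _)
  have hpair : ∀ i < 7, ∀ j < 7, i < j → prodCheck (-1) (threeX.getD i threeX0).L (threeX.getD j threeX0).T
      (threeX.getD j threeX0).T (threeX.getD i threeX0).L = true := fun i hi j hj hij => by
    have := List.all_eq_true.1 (List.all_eq_true.1 threeX_pairs i (List.mem_range.2 hi)) j (List.mem_range.2 hj)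
    simp only [Bool.or_eq_true, decide_eq_true_eq] at this
    exact this.resolve_left (by omega)
  let ξ : Fin 7 → threeFix.cen1 ⧸ threeFix.piN := fun i => QuotientGroup.mk' threeFix.piN
    ⟨bar (threeX.getD i threeX0).el, threeFix.bar_mem_cen1 (MatData.el_mem_cen0 threeFix hok (hgood i i.2))⟩
  obtain ⟨h3, h2⟩ := carmichael_rels hok threeX threeX0 7 hgood hcube hpair ξ (fun _ => rfl)
  obtain ⟨φ, hφ, -⟩ := exists_hom ξ h3 h2
  set g0 := (threeX.getD 0 threeX0).el
  have hg0 : g0 ∈ threeFix.cen0 := MatData.el_mem_cen0 threeFix hok (hgood 0 (by norm_num))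
  have hmove : ¬ Cg (g0 • threeFix.basisV 0) (threeFix.basisV 0) :=
    moved_of_check hok (hgood 0 (by norm_num)) threeMoved_ok
  let α : alternatingGroup (Fin 2 ⊕ Fin 7) ≃* alternatingGroup (Fin 9) := Equiv.altCongrHom finSumFinEquiv
  let ψ : alternatingGroup (Fin 9) →* threeFix.cen1 ⧸ threeFix.piN := φ.comp α.symm.toMonoidHom
  set t0 := α ⟨cyc (0 : Fin 7), cyc_mem_alternatingGroup 0⟩
  have hψ0 : ψ t0 = QuotientGroup.mk' threeFix.piN ⟨bar g0, threeFix.bar_mem_cen1 hg0⟩ := by
    show φ (α.symm (α _)) = _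
    rw [α.symm_apply_apply, hφ]
    rfl
  haveI : IsSimpleGroup (alternatingGroup (Fin 9)) := alternatingGroup.isSimpleGroup (by simp)
  have hψi : Function.Injective ψ := by
    rw [← MonoidHom.ker_eq_bot_iff]
    refine (ψ.normal_ker.eq_bot_or_eq_top).resolve_right fun e => ?_
    exact FixData.not_mem_piN hok hg0 (by norm_num) hmove
      (hψ0.symm.trans ((MonoidHom.mem_ker (f := ψ)).1 (e ▸ Subgroup.mem_top t0)))
  obtain ⟨θ, hθs, hθk, hθψ⟩ := FixData.exists_theta hok (by norm_num [threeFix]) ψ hψi (by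
    refine lt_of_le_of_lt three_bound ?_
    rw [nat_card_alternatingGroup, Nat.card_fin]
    decide +kernel)
  refine ⟨θ, g0, hg0, hθs, hθk, hmove, ?_, fun N hN hne => ?_⟩
  · rw [← map_pow]
    convert map_one θ
    refine Subtype.ext ?_
    show bar g0 ^ 3 = 1
    rw [← map_pow, MatData.cube_eq_one (hgood 0 (by norm_num)) toMat_eightI (hcube 0 (by norm_num)), map_one]
  · rw [(hN.eq_bot_or_eq_top).resolve_left hne]
    exact Subgroup.mem_top _

theorem sq_eq_one_of_symm {A : MatData} {code : ℕ} (hA : A.good code = true) (hs : A.T = A.L) :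
    A.el * A.el = 1 := by
  refine eq_of_vec (c := 64) (by norm_num) fun v => ?_
  rw [← MatData.vec_mul hA hA, one_smul]
  have e : A.M = A.Mᵀ := by rw [MatData.mk_transpose (MatData.ok_of_good hA), hs]; rfl
  calc (A.M * A.M) *ᵥ (v : GolayPt → ℤ) = (A.Mᵀ * A.M) *ᵥ (v : GolayPt → ℤ) := by rw [← e]
    _ = (64 : ℤ) • (v : GolayPt → ℤ) := by rw [MatData.orth hA, Matrix.smul_mulVec, Matrix.one_mulVec]

theorem fiveT_symm : fiveT.T = fiveT.L := by decide +kernel

theorem five_theta : ∃ (θ : fiveFix.cen1 →* alternatingFiveWreathTwo) (g0 : Co0) (hg0 : g0 ∈ fiveFix.cen0),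
    Function.Surjective θ ∧
    (∀ a, θ a = 1 ↔ (a : Spor.Co1) ∈ Subgroup.zpowers (bar (permHom fiveFix.pi))) ∧
    ¬ Cg (g0 • fiveFix.basisV 0) (fiveFix.basisV 0) ∧
    θ ⟨bar g0, fiveFix.bar_mem_cen1 hg0⟩ ^ 3 = 1 ∧
    ∀ N : Subgroup alternatingFiveWreathTwo, N.Normal → N ≠ ⊥ →
      θ ⟨bar g0, fiveFix.bar_mem_cen1 hg0⟩ ∈ N := by
  have hok := fiveFix_ok
  have hgood : ∀ i < 3, (fiveX.getD i fiveX0).good fiveFix.code = true := fun i hi =>
    List.all_eq_true.1 fiveX_good _ (by rw [List.getD_eq_getElem _ _ (show i < fiveX.length from hi)]; exact List.getElem_mem _)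
  have hgoodY : ∀ i < 3, (fiveY.getD i fiveY0).good fiveFix.code = true := fun i hi =>
    List.all_eq_true.1 fiveY_good _ (by rw [List.getD_eq_getElem _ _ (show i < fiveY.length from hi)]; exact List.getElem_mem _)
  have hcube : ∀ i < 3, prodCheck 1 (fiveX.getD i fiveX0).L (fiveX.getD i fiveX0).T (fiveX.getD i fiveX0).T eightI = true :=
    fun i hi => List.all_eq_true.1 fiveX_cube _ (by rw [List.getD_eq_getElem _ _ (show i < fiveX.length from hi)]; exact List.getElem_mem _)
  have hpair : ∀ i < 3, ∀ j < 3, i < j → prodCheck (-1) (fiveX.getD i fiveX0).L (fiveX.getD j fiveX0).T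
      (fiveX.getD j fiveX0).T (fiveX.getD i fiveX0).L = true := fun i hi j hj hij => by
    have := List.all_eq_true.1 (List.all_eq_true.1 fiveX_pairs i (List.mem_range.2 hi)) j (List.mem_range.2 hj)
    simp only [Bool.or_eq_true, decide_eq_true_eq] at this
    exact this.resolve_left (by omega)
  let bq : ∀ g : Co0, g ∈ fiveFix.cen0 → fiveFix.cen1 ⧸ fiveFix.piN := fun g hg =>
    QuotientGroup.mk' fiveFix.piN ⟨bar g, fiveFix.bar_mem_cen1 hg⟩
  have bq_mul : ∀ a b ha hb hab, bq a ha * bq b hb = bq (a * b) hab := fun a b ha hb hab => by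
    simp only [bq, ← map_mul]
    congr 1
  let ξ : Fin 3 → fiveFix.cen1 ⧸ fiveFix.piN := fun i =>
    bq (fiveX.getD i fiveX0).el (MatData.el_mem_cen0 fiveFix hok (hgood i i.2))
  obtain ⟨h3, h2⟩ := carmichael_rels hok fiveX fiveX0 3 hgood hcube hpair ξ (fun _ => rfl)
  obtain ⟨φ, hφ, hφr⟩ := exists_hom ξ h3 h2
  set g0 := (fiveX.getD 0 fiveX0).el
  have hg0 : g0 ∈ fiveFix.cen0 := MatData.el_mem_cen0 fiveFix hok (hgood 0 (by norm_num))
  have hmove : ¬ Cg (g0 • fiveFix.basisV 0) (fiveFix.basisV 0) :=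
    moved_of_check hok (hgood 0 (by norm_num)) fiveMoved_ok
  let α : alternatingGroup (Fin 2 ⊕ Fin 3) ≃* Wreath.A5 := Equiv.altCongrHom finSumFinEquiv
  let f : Wreath.A5 →* fiveFix.cen1 ⧸ fiveFix.piN := φ.comp α.symm.toMonoidHom
  set a0 := α ⟨cyc (0 : Fin 3), cyc_mem_alternatingGroup 0⟩
  have hf0 : f a0 = bq g0 hg0 := by
    show φ (α.symm (α _)) = _
    rw [α.symm_apply_apply, hφ]
    rfl
  have hf : f ≠ 1 := fun e => FixData.not_mem_piN hok hg0 (by norm_num) hmove
    (hf0.symm.trans (by rw [e]; rfl))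
  have hT0 := MatData.el_mem_cen0 fiveFix hok fiveT_good
  set t := bq fiveT.el hT0
  have ht : t * t = 1 := by
    rw [bq_mul _ _ hT0 hT0 (mul_mem hT0 hT0)]
    show QuotientGroup.mk' fiveFix.piN _ = 1
    have e : (⟨bar (fiveT.el * fiveT.el), fiveFix.bar_mem_cen1 (mul_mem hT0 hT0)⟩ : fiveFix.cen1) = 1 :=
      Subtype.ext (by
        show bar (fiveT.el * fiveT.el) = 1
        rw [sq_eq_one_of_symm fiveT_good fiveT_symm, map_one])
    rw [e, map_one]
  have hgen : ∀ i j : Fin 3, Commute (ξ i) (t * ξ j * t) := by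
    intro i j
    have hT2 := sq_eq_one_of_symm fiveT_good fiveT_symm
    have hX := hgood i i.2
    have hXj := hgood j j.2
    have hY := hgoodY j j.2
    have hconj : fiveT.el * (fiveX.getD j fiveX0).el = (fiveY.getD j fiveY0).el * fiveT.el :=
      MatData.mul_eq_mul fiveT_good hXj hY fiveT_good
        (List.all_eq_true.1 fiveT_conj j (List.mem_range.2 j.2))
    have hcm : (fiveX.getD i fiveX0).el * (fiveY.getD j fiveY0).el =
        (fiveY.getD j fiveY0).el * (fiveX.getD i fiveX0).el :=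
      MatData.mul_eq_mul hX hY hY hX
        (List.all_eq_true.1 (List.all_eq_true.1 five_comm i (List.mem_range.2 i.2)) j (List.mem_range.2 j.2))
    have hYm := MatData.el_mem_cen0 fiveFix hok hY
    have hXm := MatData.el_mem_cen0 fiveFix hok hX
    have e : t * ξ j * t = bq (fiveY.getD j fiveY0).el hYm := by
      have hXjm := MatData.el_mem_cen0 fiveFix hok hXj
      show bq _ hT0 * bq _ hXjm * bq _ hT0 = _
      rw [bq_mul _ _ hT0 hXjm (mul_mem hT0 hXjm), bq_mul _ _ (mul_mem hT0 hXjm) hT0 (mul_mem (mul_mem hT0 hXjm) hT0)]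
      simp only [hconj, mul_assoc, hT2, mul_one]
    show ξ i * (t * ξ j * t) = t * ξ j * t * ξ i
    rw [e]
    show bq _ hXm * bq _ hYm = bq _ hYm * bq _ hXm
    rw [bq_mul _ _ hXm hYm (mul_mem hXm hYm), bq_mul _ _ hYm hXm (mul_mem hYm hXm)]
    simp only [hcm]
  have hcomm : ∀ a b, f a * (t * f b * t) = t * f b * t * f a := by
    intro a b
    have ha : f a ∈ Subgroup.closure (Set.range ξ) := hφr ▸ ⟨_, rfl⟩
    have hb : f b ∈ Subgroup.closure (Set.range ξ) := hφr ▸ ⟨_, rfl⟩
    have hti : t⁻¹ = t := inv_eq_of_mul_eq_one_right ht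
    have h1 : ∀ j, ∀ x ∈ Subgroup.closure (Set.range ξ), Commute x (t * ξ j * t) := by
      intro j x hx
      induction hx using Subgroup.closure_induction with
      | mem x hx => obtain ⟨i, rfl⟩ := hx; exact hgen i j
      | one => exact Commute.one_left _
      | mul x y _ _ hx hy => exact hx.mul_left hy
      | inv x _ hx => exact hx.inv_left
    suffices H : ∀ y ∈ Subgroup.closure (Set.range ξ), Commute (f a) (t * y * t) from (H _ hb).eq
    intro y hy
    induction hy using Subgroup.closure_induction with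
    | mem x hx => obtain ⟨j, rfl⟩ := hx; exact h1 j _ ha
    | one => rw [mul_one, ht]; exact Commute.one_right _
    | mul x y _ _ hx hy =>
      rw [show t * (x * y) * t = (t * x * t) * (t * y * t) by
        calc t * (x * y) * t = t * x * (t * t) * y * t := by rw [ht, mul_one]; group
          _ = _ := by group]
      exact hx.mul_right hy
    | inv x _ hx =>
      rw [show t * x⁻¹ * t = (t * x * t)⁻¹ by rw [mul_inv_rev, mul_inv_rev, hti, mul_assoc]]
      exact hx.inv_right
  obtain ⟨ψ, hψi, hψl⟩ := Wreath.exists_hom_wreath f t ht hcomm hf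
  obtain ⟨θ, hθs, hθk, hθψ⟩ := FixData.exists_theta hok (by norm_num [fiveFix]) ψ hψi (by
    refine lt_of_le_of_lt five_bound ?_
    rw [Wreath.natCard_wreath]
    decide +kernel)
  refine ⟨θ, g0, hg0, hθs, hθk, hmove, ?_, fun N hN hne => ?_⟩
  · rw [← map_pow]
    convert map_one θ
    refine Subtype.ext ?_
    show bar g0 ^ 3 = 1
    rw [← map_pow, MatData.cube_eq_one (hgood 0 (by norm_num)) toMat_eightI (hcube 0 (by norm_num)), map_one]
  · rw [hθψ (Wreath.left a0) _ (by rw [hψl, hf0])]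
    exact Wreath.left_mem_of_normal hN hne a0

end Cfsg.Agent.MonsterLocal
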