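import Cfsg.Agent.Lib.MonsterLocal.FixSpace
import Cfsg.Agent.Lib.Golay.Count

/-!
# A bound for the centraliser of a permutation of odd order in the first Conway group

* `cen0`, `cen1` : the centralisers in `Co0` and in the first Conway group
* `natCard_cen1_le` : `2 |cen1| ≤ cnt · (fixed words) · |C_M24(π)|`
-/

set_option autoImplicit false
open scoped Pointwise
open Cfsg

namespace Cfsg.Agent.MonsterLocal

open Monster MonsterLattice Leech

theorem permHom_mul_mono {σ : Equiv.Perm GolayPt} (hσ : σ ∈ M24) {c : Finset GolayPt}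
    (hc : c ∈ supports (golayCode : Set (GolayPt → ZMod 2))) (τ : M24) :
    permHom τ * mono σ hσ c hc =
      mono (τ.1 * σ) (mul_mem τ.2 hσ) (τ.1 • c) (Golay.smul_mem_supports τ.2 hc) := by
  refine co0_ext fun v => Subtype.ext (funext fun i => ?_)
  rw [mul_smul, permHom_apply, vec_mono, vec_mono, signedPerm, if_neg (Finset.notMem_empty i), vec_mono,
    signedPerm, signedPerm]
  have hmem : i ∈ τ.1 • c ↔ τ.1.symm i ∈ c := by
    rw [← Finset.inv_smul_mem_iff]; rfl
  simp only [hmem]
  rfl

theorem mono_mul_permHom {σ : Equiv.Perm GolayPt} (hσ : σ ∈ M24) {c : Finset GolayPt}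
    (hc : c ∈ supports (golayCode : Set (GolayPt → ZMod 2))) (τ : M24) :
    mono σ hσ c hc * permHom τ = mono (σ * τ.1) (mul_mem hσ τ.2) c hc := by
  refine co0_ext fun v => Subtype.ext (funext fun i => ?_)
  rw [mul_smul, permHom_apply, vec_mono, vec_mono, signedPerm, signedPerm, vec_mono, signedPerm,
    if_neg (Finset.notMem_empty _)]
  rfl

/-- A point code fixed by the permutation. -/
def fixMask (d m : ℕ) : Bool := (List.range 24).all fun j => m.testBit (Golay.fn d j) == m.testBit j

namespace FixData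

variable (D : FixData)

/-- The centraliser in `Co0`. -/
noncomputable def cen0 : Subgroup Co0 := Subgroup.centralizer {permHom D.pi}

/-- The centraliser in the first Conway group. -/
noncomputable def cen1 : Subgroup Spor.Co1 := Subgroup.centralizer {bar (permHom D.pi)}

theorem mem_cen0 {g : Co0} : g ∈ D.cen0 ↔ g * permHom D.pi = permHom D.pi * g :=
  Subgroup.mem_centralizer_singleton_iff

theorem bar_mem_cen1 {g : Co0} (hg : g ∈ D.cen0) : bar g ∈ D.cen1 :=
  Subgroup.mem_centralizer_singleton_iff.2 (by rw [← map_mul, ← map_mul, D.mem_cen0.1 hg])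

variable {D}

theorem cen1_eq (h : D.ok = true) : D.cen1 = D.cen0.map bar := by
  refine le_antisymm (fun a ha => ?_) (Subgroup.map_le_iff_le_comap.2 fun g hg => D.bar_mem_cen1 hg)
  obtain ⟨g, rfl⟩ := QuotientGroup.mk'_surjective (Subgroup.center Co0) a
  refine ⟨g, D.mem_cen0.2 ?_, rfl⟩
  have h1 : bar (g * permHom D.pi * g⁻¹ * (permHom D.pi)⁻¹) = 1 := by
    rw [map_mul, map_mul, map_mul, map_inv, map_inv, Subgroup.mem_centralizer_singleton_iff.1 ha]
    group
  rcases bar_eq_one.1 h1 with e | e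
  · exact mul_inv_eq_iff_eq_mul.1 (mul_inv_eq_one.1 e)
  · exfalso
    have e' : g * permHom D.pi * g⁻¹ = negOne * permHom D.pi := mul_inv_eq_iff_eq_mul.1 e
    have hc : Commute negOne (permHom D.pi) := (Subgroup.mem_center_iff.1 negOne_mem_center _).symm
    have h2 := congrArg (fun x => x ^ D.p) e'
    simp only [conj_pow, hc.mul_pow, ← map_pow, pi_pow_p h, map_one, mul_one, mul_inv_cancel] at h2
    obtain ⟨m, hm⟩ := odd_p h
    rw [hm, pow_succ, pow_mul, pow_two, negOne_mul_self, one_pow, one_mul] at h2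
    exact negOne_ne_one h2.symm

theorem two_mul_natCard_cen1 (h : D.ok = true) : 2 * Nat.card D.cen1 = Nat.card D.cen0 := by
  have h1 := natCard_map_mul bar D.cen0
  have h2 : D.cen0 ⊓ bar.ker = Subgroup.center Co0 := by
    rw [QuotientGroup.ker_mk', inf_eq_right.2]
    exact fun c hc => D.mem_cen0.2 (Subgroup.mem_center_iff.1 hc _).symm
  rw [h2, natCard_center, ← cen1_eq h] at h1
  omega

theorem natCard_fixed_words (h : D.ok = true) :
    Nat.card {c : Finset GolayPt // c ∈ supports (golayCode : Set (GolayPt → ZMod 2)) ∧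
      (D.pi : Equiv.Perm GolayPt) • c = c} ≤ Golay.countSpan (fixMask D.code) Golay.rows 0 := by
  rw [← Golay.ncard_supports_filter]
  refine Set.ncard_le_ncard ?_ (Set.toFinite _)
  rintro c ⟨hc, hfix⟩
  refine ⟨hc, List.all_eq_true.2 fun j hj => beq_iff_eq.2 ?_⟩
  have hv := Golay.validPerm_of_isAut (isAut_of_ok h)
  have hiff : ∀ q : GolayPt, ((D.pi : Equiv.Perm GolayPt) q ∈ c ↔ q ∈ c) := fun q => by
    conv_lhs => rw [← hfix]
    exact Finset.smul_mem_smul_finset_iff _
  have := hiff (Golay.pt j)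
  rw [pi_coe h, ← Golay.pts_maskOf c, Golay.mem_pts, Golay.mem_pts, Golay.idx_toPerm hv,
    Golay.idx_pt (List.mem_range.1 hj)] at this
  rw [Bool.eq_iff_iff]
  exact this

theorem natCard_cen0_le (h : D.ok = true) :
    Nat.card D.cen0 ≤ D.cnt * (Golay.countSpan (fixMask D.code) Golay.rows 0 *
      Nat.card {σ : M24 // σ * D.pi = D.pi * σ}) := by
  haveI : Finite Co0 := finite_co0
  set H := stdStab.subgroupOf D.cen0
  have hfix : ∀ g : D.cen0, Cg (permHom D.pi • (g : Co0) • eightVec none) ((g : Co0) • eightVec none) :=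
    fun g => by
      rw [← mul_smul, ← D.mem_cen0.1 g.2, mul_smul]
      exact (mem_clsStab.1 (clsStab_eightVec.symm ▸ permHom_mem D.pi)).smul _
  have hn : ∀ g : D.cen0, sqNorm (((g : Co0) • eightVec none : leechLattice) : GolayPt → ℤ) = 64 :=
    fun g => by rw [sqNorm_smul, sqNorm_eightVec]
  choose f hfi hfc using fun g => exists_comb64 h (hn g) (hfix g)
  have hq : Nat.card (D.cen0 ⧸ H) ≤ D.cnt := by
    rw [← card_idx64 h, ← Nat.card_eq_finsetCard]
    refine Nat.card_le_card_of_injective (fun q => (⟨f q.out, hfi _⟩ : D.idx64)) fun q q' e => ?_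
    have e' : f q.out = f q'.out := congrArg Subtype.val e
    rw [← q.out_eq', ← q'.out_eq']
    refine QuotientGroup.eq.2 ?_
    show ((q.out⁻¹ * q'.out : D.cen0) : Co0) ∈ stdStab
    rw [← clsStab_eightVec, mem_clsStab, Subgroup.coe_mul, Subgroup.coe_inv, mul_smul]
    have hc := ((hfc q'.out).trans ((e' ▸ cg_refl _ : Cg (D.comb (f q'.out)) (D.comb (f q.out))).trans
      (hfc q.out).symm)).smul ((q.out : D.cen0) : Co0)⁻¹
    rwa [inv_smul_smul] at hc
  have hH : Nat.card H ≤ Golay.countSpan (fixMask D.code) Golay.rows 0 *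
      Nat.card {σ : M24 // σ * D.pi = D.pi * σ} := by
    choose σ hσ c hc he using fun k : H => exists_mono_of_mem (Subgroup.mem_subgroupOf.1 k.2)
    have hk : ∀ k : H, σ k * D.pi.1 = D.pi.1 * σ k ∧ D.pi.1 • c k = c k := fun k => by
      have h1 := D.mem_cen0.1 k.1.2
      rw [he k, mono_mul_permHom, permHom_mul_mono] at h1
      exact ⟨(mono_injective h1).1, (mono_injective h1).2.symm⟩
    refine le_trans (Nat.card_le_card_of_injective (β := {c : Finset GolayPt //
        c ∈ supports (golayCode : Set (GolayPt → ZMod 2)) ∧ (D.pi : Equiv.Perm GolayPt) • c = c} ×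
          {σ : M24 // σ * D.pi = D.pi * σ})
      (fun k => (⟨c k, hc k, (hk k).2⟩, ⟨⟨σ k, hσ k⟩, Subtype.ext (hk k).1⟩)) fun k k' e => ?_) ?_
    · simp only [Prod.mk.injEq, Subtype.mk.injEq] at e
      refine Subtype.ext (Subtype.ext ?_)
      rw [he k, he k']
      congr 1
      exacts [e.2, e.1]
    · rw [Nat.card_prod]
      exact Nat.mul_le_mul (natCard_fixed_words h) le_rfl
  rw [Subgroup.card_eq_card_quotient_mul_card_subgroup H]
  exact Nat.mul_le_mul hq hH

end FixData

end Cfsg.Agent.MonsterLocal
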