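import Cfsg.Agent.Lib.MonsterLocal.FiveFix
import Cfsg.Agent.Lib.MonsterLocal.FiveMats

/-!
# The checks of the certificates (five)
-/

set_option autoImplicit false
set_option maxRecDepth 100000

namespace Cfsg.Agent.MonsterLocal

theorem fiveFix_ok : fiveFix.ok = true := by decide +kernel

theorem fiveFix_words : Golay.countSpan (fixMask fiveFix.code) Golay.rows 0 = 16 := by decide +kernel

theorem fiveX_good : fiveX.all (fun A => A.good fiveFix.code) = true := by decide +kernel

theorem fiveX_cube : fiveX.all (fun A => prodCheck 1 A.L A.T A.T eightI) = true := by decide +kernel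

theorem fiveX_pairs : (List.range 3).all (fun i => (List.range 3).all fun j => decide (j ≤ i) || prodCheck (-1) (fiveX.getD i fiveX0).L (fiveX.getD j fiveX0).T (fiveX.getD j fiveX0).T (fiveX.getD i fiveX0).L) = true := by decide +kernel

theorem fiveMoved_ok : (Leech.inLatL fiveMoved && decide ((fiveFix.basis.getD 0 []).length = 24) &&
    (fiveX0.L.map fun r => Leech.dotL r (fiveFix.basis.getD 0 [])) == fiveMoved.map (8 * ·) &&
    decide (((Leech.dotL fiveMoved (fiveFix.duals.getD 0 [])) / 8) % 2 = 0)) = true := by decide +kernel

theorem fiveY_good : fiveY.all (fun A => A.good fiveFix.code) = true := by decide +kernel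

theorem fiveT_good : fiveT.good fiveFix.code = true := by decide +kernel

theorem fiveT_sq : prodCheck 1 fiveT.L fiveT.L eightI eightI = true := by decide +kernel

theorem fiveT_conj : (List.range 3).all (fun i => prodCheck 1 fiveT.L (fiveX.getD i fiveX0).T (fiveY.getD i fiveY0).L fiveT.T) = true := by decide +kernel

theorem five_comm : (List.range 3).all (fun i => (List.range 3).all fun j => prodCheck 1 (fiveX.getD i fiveX0).L (fiveY.getD j fiveY0).T (fiveY.getD j fiveY0).L (fiveX.getD i fiveX0).T) = true := by decide +kernel

end Cfsg.Agent.MonsterLocal
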