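import Cfsg.Agent.Lib.MonsterLocal.Twist
import Cfsg.Agent.Lib.Leech.MatEl
import Cfsg.Agent.Lib.Golay.Generators

/-!
# The classes modulo two fixed by a permutation of odd order

* `FixData`, `FixData.ok` : a basis of the fixed classes, its dual vectors, short representatives
* `exists_comb`, `comb_inj`, `fixed_comb`, `exists_comb64`
-/

set_option autoImplicit false
open Cfsg

namespace Cfsg.Agent.MonsterLocal

open Monster MonsterLattice Leech

theorem cg_add {a b c d : leechLattice} (h : Cg a b) (h' : Cg c d) : Cg (a + c) (b + d) := by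
  obtain ⟨u, rfl⟩ := cg_iff.1 h
  obtain ⟨w, rfl⟩ := cg_iff.1 h'
  exact cg_iff.2 ⟨u + w, by abel⟩

theorem cg_sum {ι : Type*} (s : Finset ι) {f g : ι → leechLattice} (h : ∀ i ∈ s, Cg (f i) (g i)) :
    Cg (∑ i ∈ s, f i) (∑ i ∈ s, g i) := by
  classical
  induction s using Finset.induction_on with
  | empty => exact cg_refl _
  | insert a s ha ih =>
    rw [Finset.sum_insert ha, Finset.sum_insert ha]
    exact cg_add (h a (Finset.mem_insert_self a s)) (ih fun i hi => h i (Finset.mem_insert_of_mem hi))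

/-- A vector with entries between `-16` and `15` from one number. -/
def dec (n : ℕ) : List ℤ := (List.range 24).map fun j => (((n >>> (5 * j)) &&& 31 : ℕ) : ℤ) - 16

/-- Several vectors. -/
def decs (l : List ℕ) : List (List ℤ) := l.map dec

/-- The vector of a list, or zero. -/
def latV (l : List ℤ) : leechLattice :=
  if h : inLatL l = true then ⟨vOf l, mem_of_inLatL h⟩ else 0

theorem coe_latV {l : List ℤ} (h : inLatL l = true) : (latV l : GolayPt → ℤ) = vOf l := by
  rw [latV, dif_pos h]

/-- The iterate of a coded permutation on bit indices. -/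
def iterFn (d : ℕ) : ℕ → ℕ → ℕ
  | 0, i => i
  | n + 1, i => Golay.fn d (iterFn d n i)

theorem idx_iterFn {d : ℕ} (hd : Golay.validPerm d = true) :
    ∀ (n : ℕ) (i : GolayPt), Golay.idx ((Golay.toPerm d ^ n) i) = iterFn d n (Golay.idx i)
  | 0, i => rfl
  | n + 1, i => by
    rw [pow_succ', Equiv.Perm.mul_apply, Golay.idx_toPerm hd, idx_iterFn hd n i, iterFn]

/-- The data: a permutation of order `p`, a basis of the fixed classes, duals, representatives. -/
structure FixData where
  p : ℕ
  code : ℕ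
  basis : List (List ℤ)
  duals : List (List ℤ)
  reps : List (List ℤ)
  wits : List (List ℤ)
  traces : List (ℕ × List ℤ)
  cnt : ℕ

namespace FixData

variable (D : FixData)

/-- The entry of a combination of the basis. -/
def combAt (i j : ℕ) : ℤ :=
  ((List.range 8).map fun k => if i.testBit k then (D.basis.getD k []).getD j 0 else 0).sum

/-- The entry of a trace. -/
def trAt (g : List ℤ) (j : ℕ) : ℤ := ((List.range D.p).map fun n => g.getD (iterFn D.code n j) 0).sum

/-- The norm of a representative. -/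
def repNorm (i : ℕ) : ℤ := dotL (D.reps.getD i []) (D.reps.getD i [])

/-- The checks. -/
def ok : Bool :=
  Golay.isAut D.code && decide (D.p % 2 = 1) &&
  ((List.range 24).all fun j => iterFn D.code D.p j == j) &&
  ((List.range 24).any fun j => iterFn D.code 1 j != j) &&
  ((List.range 8).all fun k => inLatL (D.basis.getD k []) && inLatL (D.duals.getD k []) &&
    (List.range 24).all fun j => (D.basis.getD k []).getD (Golay.fn D.code j) 0 == (D.basis.getD k []).getD j 0) &&
  ((List.range 8).all fun k => (List.range 8).all fun l =>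
    decide ((dotL (D.basis.getD k []) (D.duals.getD l []) / 8) % 2 = if k = l then 1 else 0)) &&
  ((List.range 256).all fun i => inLatL (D.reps.getD i []) && inLatL (D.wits.getD i []) &&
    decide (D.repNorm i ≤ 64) &&
    (List.range 24).all fun j => (D.reps.getD i []).getD j 0 == D.combAt i j + 2 * (D.wits.getD i []).getD j 0) &&
  decide (genLists.length = D.traces.length) &&
  ((genLists.zip D.traces).all fun q => inLatL q.1 && decide (q.2.1 < 256) && inLatL q.2.2 &&
    (List.range 24).all fun j => D.trAt q.1 j == D.combAt q.2.1 j + 2 * q.2.2.getD j 0) &&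
  decide (((List.range 256).filter fun i => D.repNorm i == 64).length = D.cnt)

/-- The permutation. -/
noncomputable def pi : M24 :=
  if h : Golay.isAut D.code = true then ⟨Golay.toPerm D.code, Golay.toPerm_mem_M24 h⟩ else 1

/-- The basis vectors. -/
def basisV (k : ℕ) : leechLattice := latV (D.basis.getD k [])

/-- A combination of the basis. -/
def comb (i : ℕ) : leechLattice :=
  ∑ k ∈ Finset.range 8, if i.testBit k then D.basisV k else 0

/-- The short representative. -/
def repV (i : ℕ) : leechLattice := latV (D.reps.getD i [])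

/-- The indices of the classes of norm 64. -/
def idx64 : Finset ℕ := (Finset.range 256).filter fun i => D.repNorm i == 64

/-- The pairing with a dual vector. -/
def pr (l : ℕ) (v : leechLattice) : ZMod 2 :=
  ((dotInt (v : GolayPt → ℤ) (latV (D.duals.getD l []) : GolayPt → ℤ) / 8 : ℤ) : ZMod 2)

theorem pr_add (l : ℕ) (v w : leechLattice) : D.pr l (v + w) = D.pr l v + D.pr l w := by
  simp only [pr]
  rw [← Int.cast_add, AddSubgroup.coe_add, dotInt_add_left]
  obtain ⟨a, ha⟩ := Leech.dvd_dotInt v.2 (latV (D.duals.getD l [])).2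
  obtain ⟨b, hb⟩ := Leech.dvd_dotInt w.2 (latV (D.duals.getD l [])).2
  rw [ha, hb]
  congr 1
  omega

theorem pr_cg (l : ℕ) {v w : leechLattice} (h : Cg v w) : D.pr l v = D.pr l w := by
  obtain ⟨u, rfl⟩ := cg_iff.1 h
  rw [D.pr_add, D.pr_add, CharTwo.add_self_eq_zero, add_zero]

variable {D}

theorem isAut_of_ok (h : D.ok = true) : Golay.isAut D.code = true := by
  simp only [ok, Bool.and_eq_true] at h; exact h.1.1.1.1.1.1.1.1.1

theorem pi_coe (h : D.ok = true) : (D.pi : Equiv.Perm GolayPt) = Golay.toPerm D.code := by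
  rw [pi, dif_pos (isAut_of_ok h)]

theorem odd_p (h : D.ok = true) : Odd D.p := by
  simp only [ok, Bool.and_eq_true, decide_eq_true_eq] at h
  exact Nat.odd_iff.2 h.1.1.1.1.1.1.1.1.2

theorem pi_pow_p (h : D.ok = true) : D.pi ^ D.p = 1 := by
  have hv := Golay.validPerm_of_isAut (isAut_of_ok h)
  refine Subtype.ext (Equiv.ext fun i => Golay.idx_injective ?_)
  rw [SubmonoidClass.coe_pow, pi_coe h, idx_iterFn hv]
  simp only [ok, Bool.and_eq_true] at h
  have := h.1.1.1.1.1.1.1.2
  rw [List.all_eq_true] at this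
  exact beq_iff_eq.1 (this _ (List.mem_range.2 (Golay.idx_lt i)))

theorem orderOf_pi (h : D.ok = true) (hp : D.p.Prime) : orderOf D.pi = D.p := by
  haveI : Fact D.p.Prime := ⟨hp⟩
  refine orderOf_eq_prime (pi_pow_p h) fun e => ?_
  have hv := Golay.validPerm_of_isAut (isAut_of_ok h)
  have e' : Golay.toPerm D.code = 1 := by rw [← pi_coe h, e]; rfl
  simp only [ok, Bool.and_eq_true] at h
  have := h.1.1.1.1.1.1.2
  rw [List.any_eq_true] at this
  obtain ⟨j, hj, hne⟩ := this
  have h2 := idx_iterFn hv 1 (Golay.pt j)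
  rw [pow_one, e', Equiv.Perm.one_apply, Golay.idx_pt (List.mem_range.1 hj)] at h2
  rw [← h2] at hne
  simp at hne

theorem basis_ok (h : D.ok = true) {k : ℕ} (hk : k < 8) :
    inLatL (D.basis.getD k []) = true ∧ inLatL (D.duals.getD k []) = true ∧
      ∀ j < 24, (D.basis.getD k []).getD (Golay.fn D.code j) 0 = (D.basis.getD k []).getD j 0 := by
  simp only [ok, Bool.and_eq_true] at h
  have := h.1.1.1.1.1.2
  simp only [List.all_eq_true, List.mem_range, Bool.and_eq_true, beq_iff_eq] at this
  obtain ⟨⟨a, b⟩, c⟩ := this k hk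
  exact ⟨a, b, c⟩

theorem vec_comb (h : D.ok = true) (i : ℕ) (j : GolayPt) :
    (D.comb i : GolayPt → ℤ) j = D.combAt i (Golay.idx j) := by
  rw [comb, AddSubgroup.val_finset_sum, Finset.sum_apply, combAt]
  rw [← List.sum_toFinset _ List.nodup_range, List.toFinset_range]
  refine Finset.sum_congr rfl fun k hk => ?_
  by_cases hb : i.testBit k = true
  · rw [if_pos hb, if_pos hb, basisV, coe_latV (basis_ok h (Finset.mem_range.1 hk)).1]
    rfl
  · rw [if_neg hb, if_neg hb]
    rfl

theorem pr_basis (h : D.ok = true) {k l : ℕ} (hk : k < 8) (hl : l < 8) :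
    D.pr l (D.basisV k) = if k = l then 1 else 0 := by
  have h' := h
  simp only [ok, Bool.and_eq_true] at h'
  have := h'.1.1.1.1.2
  simp only [List.all_eq_true, List.mem_range, decide_eq_true_eq] at this
  have hkl := this k hk l hl
  obtain ⟨h1, -, -⟩ := basis_ok h hk
  obtain ⟨-, h2, -⟩ := basis_ok h hl
  have hlen : (D.duals.getD l []).length = 24 := by
    cases hD : D.duals.getD l [] with
    | nil => rw [hD] at h2; simp [inLatL] at h2
    | cons x m =>
      rw [hD] at h2
      simp only [inLatL, Bool.and_eq_true, beq_iff_eq] at h2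
      exact h2.1.1
  have hd : dotInt (D.basisV k : GolayPt → ℤ) (latV (D.duals.getD l []) : GolayPt → ℤ) =
      dotL (D.basis.getD k []) (D.duals.getD l []) := by
    rw [basisV, coe_latV h1, coe_latV h2, ← vOf_dotProduct _ hlen]
    rfl
  rw [pr, hd]
  split_ifs at hkl ⊢ with e
  · rw [show (1 : ZMod 2) = ((1 : ℤ) : ZMod 2) from Int.cast_one.symm]
    exact (ZMod.intCast_eq_intCast_iff' _ _ 2).2 hkl
  · rw [show (0 : ZMod 2) = ((0 : ℤ) : ZMod 2) from Int.cast_zero.symm]
    exact (ZMod.intCast_eq_intCast_iff' _ _ 2).2 hkl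

theorem pr_comb (h : D.ok = true) (i : ℕ) {l : ℕ} (hl : l < 8) :
    D.pr l (D.comb i) = if i.testBit l then 1 else 0 := by
  have h0 : D.pr l 0 = 0 := by simp [pr, dotInt]
  rw [comb, show D.pr l (∑ k ∈ Finset.range 8, if i.testBit k then D.basisV k else 0) =
      ∑ k ∈ Finset.range 8, D.pr l (if i.testBit k then D.basisV k else 0) from
    map_sum (AddMonoidHom.mk' (D.pr l) (D.pr_add l)) _ _, Finset.sum_eq_single l]
  · split_ifs with e
    · rw [pr_basis h hl hl, if_pos rfl]
    · exact h0
  · intro k hk hne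
    split_ifs
    · rw [pr_basis h (Finset.mem_range.1 hk) hl, if_neg hne]
    · exact h0
  · exact fun hn => absurd (Finset.mem_range.2 hl) hn

theorem comb_inj (h : D.ok = true) {i j : ℕ} (hi : i < 256) (hj : j < 256)
    (hc : Cg (D.comb i) (D.comb j)) : i = j := by
  refine Nat.eq_of_testBit_eq fun l => ?_
  by_cases hl : l < 8
  · have := D.pr_cg l hc
    rw [pr_comb h i hl, pr_comb h j hl] at this
    revert this
    cases i.testBit l <;> cases j.testBit l <;> simp
  · have hp : (256 : ℕ) ≤ 2 ^ l := (show (2 : ℕ) ^ 8 ≤ 2 ^ l from Nat.pow_le_pow_right two_pos (by omega))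
    rw [Nat.testBit_lt_two_pow (hi.trans_le hp), Nat.testBit_lt_two_pow (hj.trans_le hp)]

theorem fixed_comb (h : D.ok = true) (i : ℕ) : permHom D.pi • D.comb i = D.comb i := by
  have hv := Golay.validPerm_of_isAut (isAut_of_ok h)
  refine Subtype.ext (funext fun j => ?_)
  rw [permHom_apply, vec_mono, signedPerm, if_neg (Finset.notMem_empty j), vec_comb h,
    show (D.comb i : GolayPt → ℤ) j = D.combAt i (Golay.idx j) from vec_comb h i j]
  obtain ⟨q, rfl⟩ := (D.pi : Equiv.Perm GolayPt).surjective j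
  rw [Equiv.symm_apply_apply, pi_coe h, Golay.idx_toPerm hv]
  unfold combAt
  refine congrArg List.sum (List.map_congr_left fun k hk => ?_)
  split_ifs
  · exact ((basis_ok h (List.mem_range.1 hk)).2.2 _ (Golay.idx_lt q)).symm
  · rfl

theorem comb_xor (h : D.ok = true) (i j : ℕ) : Cg (D.comb i + D.comb j) (D.comb (i ^^^ j)) := by
  rw [comb, comb, comb, ← Finset.sum_add_distrib]
  refine cg_sum _ fun k _ => ?_
  rw [Nat.testBit_xor]
  cases i.testBit k <;> cases j.testBit k <;> simp [cg_refl]
  exact cg_iff.2 ⟨D.basisV k, (zero_add _).symm⟩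

/-- The trace. -/
noncomputable def tr (v : leechLattice) : leechLattice :=
  ∑ n ∈ Finset.range D.p, permHom (D.pi⁻¹ ^ n) • v

theorem vec_tr (h : D.ok = true) {g : List ℤ} (hg : inLatL g = true) (j : GolayPt) :
    (tr (D := D) (latV g) : GolayPt → ℤ) j = D.trAt g (Golay.idx j) := by
  have hv := Golay.validPerm_of_isAut (isAut_of_ok h)
  rw [tr, AddSubgroup.val_finset_sum, Finset.sum_apply, trAt]
  rw [← List.sum_toFinset _ List.nodup_range, List.toFinset_range]
  refine Finset.sum_congr rfl fun n _ => ?_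
  rw [permHom_apply, vec_mono, signedPerm, if_neg (Finset.notMem_empty j), coe_latV hg]
  have : ((D.pi⁻¹ ^ n : M24) : Equiv.Perm GolayPt).symm = Golay.toPerm D.code ^ n := by
    show ((((D.pi⁻¹ ^ n : M24) : Equiv.Perm GolayPt))⁻¹ : Equiv.Perm GolayPt) = _
    rw [← Subgroup.coe_inv, inv_pow, inv_inv, SubmonoidClass.coe_pow, pi_coe h]
  rw [this]
  show g.getD (Golay.idx ((Golay.toPerm D.code ^ n) j)) 0 = _
  rw [idx_iterFn hv]

theorem exists_tr (h : D.ok = true) (v : leechLattice) : ∃ i < 256, Cg (tr (D := D) v) (D.comb i) := by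
  have hadd : ∀ a b : leechLattice, tr (D := D) (a + b) = tr (D := D) a + tr (D := D) b := fun a b => by
    simp only [tr, smul_vadd, Finset.sum_add_distrib]
  let T : leechLattice →+ leechLattice := AddMonoidHom.mk' (tr (D := D)) hadd
  let S : AddSubgroup (GolayPt → ℤ) :=
    { carrier := {x | ∃ hx : x ∈ leechLattice, ∃ i < 256, Cg (T ⟨x, hx⟩) (D.comb i)}
      zero_mem' := ⟨leechLattice.zero_mem, 0, by norm_num, by
        rw [show (⟨0, leechLattice.zero_mem⟩ : leechLattice) = 0 from rfl, map_zero, comb]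
        simp [cg_refl]⟩
      add_mem' := by
        rintro a b ⟨ha, i, hi, hia⟩ ⟨hb, j, hj, hjb⟩
        refine ⟨leechLattice.add_mem ha hb, i ^^^ j, Nat.xor_lt_two_pow (n := 8) hi hj, ?_⟩
        rw [show (⟨a + b, leechLattice.add_mem ha hb⟩ : leechLattice) = ⟨a, ha⟩ + ⟨b, hb⟩ from rfl, map_add]
        exact (cg_add hia hjb).trans (comb_xor h i j)
      neg_mem' := by
        rintro a ⟨ha, i, hi, hia⟩
        refine ⟨leechLattice.neg_mem ha, i, hi, ?_⟩
        rw [show (⟨-a, leechLattice.neg_mem ha⟩ : leechLattice) = -⟨a, ha⟩ from rfl, map_neg]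
        exact (Cg.neg _).symm.trans hia }
  have hgen : ∀ g ∈ genLists, vOf g ∈ S := by
    intro g hg
    have h' := h
    simp only [ok, Bool.and_eq_true, decide_eq_true_eq] at h'
    have hlen := h'.1.1.2
    have hall := h'.1.2
    rw [List.all_eq_true] at hall
    obtain ⟨n, hn, rfl⟩ := List.getElem_of_mem hg
    have hm : (genLists[n], D.traces[n]'(hlen ▸ hn)) ∈ genLists.zip D.traces := by
      rw [List.mem_iff_getElem]
      exact ⟨n, by simp [hlen ▸ hn, hn], by simp⟩
    have hq := hall _ hm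
    simp only [Bool.and_eq_true, decide_eq_true_eq, List.all_eq_true, List.mem_range, beq_iff_eq] at hq
    obtain ⟨⟨⟨hg1, hi⟩, hu⟩, he⟩ := hq
    refine ⟨mem_of_inLatL hg1, _, hi, ?_⟩
    refine cg_iff.2 ⟨latV (D.traces[n]'(hlen ▸ hn)).2, Subtype.ext (funext fun j => ?_)⟩
    rw [show (⟨vOf genLists[n], mem_of_inLatL hg1⟩ : leechLattice) = latV genLists[n] from
      Subtype.ext (coe_latV hg1).symm]
    show (tr (D := D) (latV genLists[n]) : GolayPt → ℤ) j = _
    rw [vec_tr h hg1, he _ (Golay.idx_lt j), AddSubgroup.coe_add, AddSubgroup.coe_add, Pi.add_apply,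
      Pi.add_apply, vec_comb h, coe_latV hu]
    simp only [vOf, two_mul]
  obtain ⟨-, h1, h2, h3, h4⟩ := genLists_spec
  obtain ⟨hx, i, hi, hc⟩ := mem_of_gens S
    (fun i => by obtain ⟨g, hg, e⟩ := h1 i; exact e ▸ hgen g hg)
    (by obtain ⟨g, hg, e⟩ := h2; exact e ▸ hgen g hg)
    (fun r hr => by obtain ⟨g, hg, e⟩ := h4 r hr; exact e ▸ hgen g hg)
    (by obtain ⟨g, hg, e⟩ := h3; exact e ▸ hgen g hg) v.2
  exact ⟨i, hi, hc⟩

/-- The fixed classes are the combinations of the basis. -/
theorem exists_comb (h : D.ok = true) {v : leechLattice} (hv : Cg (permHom D.pi • v) v) :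
    ∃ i < 256, Cg v (D.comb i) := by
  have h1 : ∀ n : ℕ, Cg (permHom (D.pi⁻¹ ^ n) • v) v := by
    intro n
    induction n with
    | zero => simpa using cg_refl v
    | succ n ih =>
      have h2 : Cg (permHom D.pi⁻¹ • v) v := by
        have := (hv.smul (permHom D.pi)⁻¹).symm
        rwa [inv_smul_smul, ← map_inv] at this
      rw [pow_succ', map_mul, mul_smul]
      exact (ih.smul _).trans h2
  obtain ⟨i, hi, hc⟩ := exists_tr h v
  refine ⟨i, hi, Cg.trans ?_ hc⟩
  refine Cg.symm ((cg_sum _ fun n _ => h1 n).trans ?_)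
  rw [Finset.sum_const, Finset.card_range]
  obtain ⟨m, hm⟩ := odd_p h
  exact cg_iff.2 ⟨m • v, by rw [hm, ← add_nsmul, ← two_mul, add_nsmul, one_nsmul, add_comm]⟩

theorem rep_ok (h : D.ok = true) {i : ℕ} (hi : i < 256) :
    Cg (D.repV i) (D.comb i) ∧ sqNorm (D.repV i : GolayPt → ℤ) = D.repNorm i ∧ D.repNorm i ≤ 64 := by
  have h' := h
  simp only [ok, Bool.and_eq_true] at h'
  have := h'.1.1.1.2
  simp only [List.all_eq_true, List.mem_range, Bool.and_eq_true, decide_eq_true_eq, beq_iff_eq] at this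
  obtain ⟨⟨⟨hr, hw⟩, hn⟩, he⟩ := this i hi
  refine ⟨cg_iff.2 ⟨latV (D.wits.getD i []), Subtype.ext (funext fun j => ?_)⟩, ?_, hn⟩
  · rw [repV, coe_latV hr, AddSubgroup.coe_add, AddSubgroup.coe_add, Pi.add_apply, Pi.add_apply,
      vec_comb h, coe_latV hw]
    show (D.reps.getD i []).getD (Golay.idx j) 0 = _
    rw [he _ (Golay.idx_lt j), two_mul]
    rfl
  · have hlen : (D.reps.getD i []).length = 24 := by
      cases hD : D.reps.getD i [] with
      | nil => rw [hD] at hr; simp [inLatL] at hr
      | cons x m =>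
        rw [hD] at hr
        simp only [inLatL, Bool.and_eq_true, beq_iff_eq] at hr
        exact hr.1.1
    rw [repV, coe_latV hr, repNorm, ← vOf_dotProduct _ hlen]
    simp [sqNorm, dotProduct, sq]

theorem exists_comb64 (h : D.ok = true) {v : leechLattice} (hn : sqNorm (v : GolayPt → ℤ) = 64)
    (hv : Cg (permHom D.pi • v) v) : ∃ i ∈ D.idx64, Cg v (D.comb i) := by
  obtain ⟨i, hi, hc⟩ := exists_comb h hv
  refine ⟨i, Finset.mem_filter.2 ⟨Finset.mem_range.2 hi, ?_⟩, hc⟩
  obtain ⟨hr, he, hle⟩ := rep_ok h hi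
  rw [beq_iff_eq, ← he]
  rcases congr_short v.2 (hc.trans hr.symm) (by rw [hn]) (by rw [he]; exact hle) with e | e | ⟨-, e, -⟩
  · rw [← e, hn]
  · rw [← hn, e, sqNorm_neg]
  · exact e

theorem card_idx64 (h : D.ok = true) : D.idx64.card = D.cnt := by
  simp only [ok, Bool.and_eq_true, decide_eq_true_eq] at h
  rw [← h.2, idx64, Finset.card_def, Finset.filter_val, Finset.range_val, Multiset.range,
    Multiset.filter_coe, Multiset.coe_card]
  simp only [Bool.decide_eq_true]

end FixData

end Cfsg.Agent.MonsterLocal
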