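import Cfsg.Agent.Lib.MonsterLocal.Cen
import Cfsg.Agent.Lib.LargeExtraspecial.Quotient

/-!
# The centraliser of an element of odd prime order in a group of Monster type

* `exists_fuse` : `z` and `s` are conjugate in the centraliser of an odd element centralising both
* `natCard_cenQ` : `C_Q(y)` has order `2^9`
* `local_type` : the involution centraliser of `C(y)/⟨y⟩`
-/

set_option autoImplicit false
open scoped commutatorElement Pointwise
open Cfsg

namespace Cfsg.Agent.MonsterLocal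

open Monster MonsterLattice LargeExtraspecial

variable {G : Type*} [Group G]

theorem mem_centralizer_zpowers {y x : G} :
    x ∈ Subgroup.centralizer (Subgroup.zpowers y : Set G) ↔ x * y = y * x := by
  rw [Subgroup.mem_centralizer_iff]
  refine ⟨fun h => (h y (Subgroup.mem_zpowers y)).symm, ?_⟩
  rintro h _ ⟨n, rfl⟩
  exact ((Commute.zpow_right (h : Commute x y) n).symm).eq

theorem zpowers_le_normalizer {y : G} {Q : Subgroup G} [Finite G]
    (h : ∀ q ∈ Q, y * q * y⁻¹ ∈ Q) : Subgroup.zpowers y ≤ Subgroup.normalizer (Q : Set G) :=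
  Subgroup.zpowers_le.2 (Subgroup.mem_normalizer_fintype h)

/-- `z` and `s` are conjugate in `C(y)`. -/
theorem exists_fuse [Finite G] {Q : Subgroup G} {z : G} (M : Setting Q z) {s : G} (hsQ : s ∈ Q)
    (hs : IsConj z s) (hne : s ≠ z) {y : G} (hodd : Odd (orderOf y))
    (hyz : y * z = z * y) (hys : y * s = s * y) :
    ∃ g : G, g * y = y * g ∧ g * z * g⁻¹ = s := by
  obtain ⟨g0, hg0⟩ := isConj_iff.1 hs
  subst hg0
  have DP := M.D.conjugate g0
  have hzP : z ∈ conjS g0 Q := M.D.mem_conj hsQ hne (by rw [M.card_Q]; norm_num)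
  have hA : Odd (Nat.card (Subgroup.zpowers y)) := by rwa [Nat.card_zpowers]
  have hp : IsPGroup 2 Q := isPGroup_of_extraspecial M.extra
  obtain ⟨r, hr, hrs⟩ := exists_conj_eq_centralizer M.D hp
    (zpowers_le_normalizer fun q hq => M.D.norm y hyz q hq) hA hsQ
    (mem_centralizer_zpowers.2 hys.symm) DP.z_ne hne
  obtain ⟨q, hq, hqz⟩ := exists_conj_eq_centralizer DP (hp.map _)
    (zpowers_le_normalizer fun q hq => DP.norm y hys q hq) hA hzP
    (mem_centralizer_zpowers.2 hyz.symm) M.D.z_ne hne.symm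
  have hr' : r * y = y * r := mem_centralizer_zpowers.1 hr.2
  have hq' : q * y = y * q := mem_centralizer_zpowers.1 hq.2
  set s := g0 * z * g0⁻¹
  have hrz : r⁻¹ * z * r = z := by rw [mul_assoc, ← M.D.z_central r hr.1, inv_mul_cancel_left]
  have hrs' : r⁻¹ * s * r = s * z := by
    calc r⁻¹ * s * r = r⁻¹ * (s * z) * r * (r⁻¹ * z * r)⁻¹ := by group
      _ = s * z⁻¹ := by rw [← hrs, hrz]; group
      _ = s * z := by rw [← eq_inv_of_mul_eq_one_left M.D.z_sq]
  refine ⟨r⁻¹ * q, (Commute.mul_left (Commute.inv_left hr') hq').eq, ?_⟩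
  calc r⁻¹ * q * z * (r⁻¹ * q)⁻¹ = r⁻¹ * (q * z * q⁻¹) * r := by group
    _ = (r⁻¹ * z * r) * (r⁻¹ * s * r) := by rw [hqz]; group
    _ = z * (s * z) := by rw [hrz, hrs']
    _ = s := by rw [← mul_assoc, ← M.D.z_central s hsQ, mul_assoc, M.D.z_sq, mul_one]

theorem eq_one_of_zpowers_of_mem [Finite G] {Q : Subgroup G} {z : G} (M : Setting Q z) {y x : G}
    (hy : Odd (orderOf y)) (hx : x ∈ Subgroup.zpowers y) (hxQ : x ∈ Q) : x = 1 := by
  have h : orderOf x ∣ Nat.gcd (orderOf y) (2 ^ 25) := Nat.dvd_gcd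
    (Nat.card_zpowers y ▸ Subgroup.orderOf_dvd_natCard _ hx) (M.card_Q ▸ Subgroup.orderOf_dvd_natCard Q hxQ)
  rwa [Nat.Coprime.pow_right 25 hy.coprime_two_right, Nat.dvd_one, orderOf_eq_one_iff] at h

/-- The fixed part of `Q`. -/
theorem natCard_cenQ [Finite G] {Q : Subgroup G} {z : G} (M : Setting Q z) {D : FixData} (hD : D.ok = true)
    {y : G} (hyz : y ∈ Subgroup.centralizer ({z} : Set G)) (hy : orderOf y = D.p)
    (hκ : M.κ ⟨y, hyz⟩ = bar (permHom D.pi)) :
    Nat.card (Q ⊓ Subgroup.centralizer (Subgroup.zpowers y : Set G) : Subgroup G) = 2 ^ 9 := by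
  classical
  set C := Q ⊓ Subgroup.centralizer (Subgroup.zpowers y : Set G)
  have hyz' : y * z = z * y := Subgroup.mem_centralizer_singleton_iff.1 hyz
  have hzC : z ∈ C := ⟨M.D.z_mem, mem_centralizer_zpowers.2 hyz'.symm⟩
  choose x hx using fun i : Fin 256 => M.exists_rel (D.comb i)
  have hxC : ∀ i, x i ∈ C := fun i => by
    refine ⟨M.rel_mem (hx i), mem_centralizer_zpowers.2 ?_⟩
    have h1 := M.rel_equiv _ ⟨y, hyz⟩ hκ.symm (hx i)
    rw [FixData.fixed_comb hD] at h1
    rcases (M.rel_cg (hx i) h1).1 (cg_refl _) with e | e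
    · exact (mul_inv_eq_iff_eq_mul.1 e).symm
    · exfalso
      have hpow : ∀ n : ℕ, y ^ n * x i * (y ^ n)⁻¹ = x i * z ^ n := by
        intro n
        induction n with
        | zero => simp
        | succ n ih =>
          calc y ^ (n + 1) * x i * (y ^ (n + 1))⁻¹ = y * (y ^ n * x i * (y ^ n)⁻¹) * y⁻¹ := by
                rw [pow_succ']; group
            _ = (y * x i * y⁻¹) * (y * z ^ n * y⁻¹) := by rw [ih]; group
            _ = x i * z * z ^ n := by
                rw [show (y : G) * x i * y⁻¹ = x i * z from e,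
                  (Commute.pow_right (show Commute y z from hyz') n).eq, mul_inv_cancel_right]
            _ = x i * z ^ (n + 1) := by rw [pow_succ', mul_assoc]
      have h2 := hpow D.p
      obtain ⟨m, hm⟩ := FixData.odd_p hD
      rw [← hy, pow_orderOf_eq_one, inv_one, one_mul, mul_one, hy, hm, pow_succ, pow_mul, pow_two,
        M.D.z_sq, one_pow, one_mul] at h2
      exact M.D.z_ne (mul_eq_left.1 h2.symm)
  let f : Fin 256 × Bool → C := fun a =>
    if a.2 then ⟨x a.1 * z, mul_mem (hxC a.1) hzC⟩ else ⟨x a.1, hxC a.1⟩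
  have hrel : ∀ a, M.rel (D.comb a.1) (f a : G) := by
    rintro ⟨i, b⟩
    cases b
    · exact hx i
    · exact M.rel_z (hx i)
  have hf : Function.Bijective f := by
    refine ⟨fun a b e => ?_, fun c => ?_⟩
    · have hc : Cg (D.comb a.1) (D.comb b.1) := (M.rel_cg (hrel a) (hrel b)).2 (Or.inl (by rw [e]))
      have h1 : a.1 = b.1 := Fin.ext (FixData.comb_inj hD a.1.2 b.1.2 hc)
      obtain ⟨i, c⟩ := a
      obtain ⟨j, d⟩ := b
      obtain rfl : i = j := h1
      have e' := congrArg Subtype.val e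
      cases c <;> cases d <;> first
        | rfl
        | (exfalso; simp [f] at e'; exact M.D.z_ne (by first | exact e' | exact e'.symm))
    · obtain ⟨v, hv⟩ := M.rel_surj _ c.2.1
      have h1 := M.rel_equiv _ ⟨y, hyz⟩ hκ.symm hv
      have hcy : (y : G) * c * y⁻¹ = c := by
        rw [← mem_centralizer_zpowers.1 c.2.2, mul_inv_cancel_right]
      rw [hcy] at h1
      obtain ⟨i, hi, hc⟩ := FixData.exists_comb hD ((M.rel_cg h1 hv).2 (Or.inl rfl))
      rcases (M.rel_cg (hx ⟨i, hi⟩) hv).1 hc.symm with e | e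
      · exact ⟨(⟨i, hi⟩, false), Subtype.ext e.symm⟩
      · exact ⟨(⟨i, hi⟩, true), Subtype.ext e.symm⟩
  rw [← Nat.card_congr (Equiv.ofBijective f hf), Nat.card_prod, Nat.card_fin]
  simp

/-- The involution centraliser of `C(y)/⟨y⟩`. -/
theorem local_type [Finite G] {Q : Subgroup G} {z : G} (M : Setting Q z) {D : FixData} (hD : D.ok = true)
    (hp : D.p.Prime) {s : G} (hsQ : s ∈ Q) (hs : IsConj z s) (hne : s ≠ z)
    {y : G} (hyz : y ∈ Subgroup.centralizer ({z} : Set G)) (hys : y * s = s * y) (hy : orderOf y = D.p)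
    (hκ : M.κ ⟨y, hyz⟩ = bar (permHom D.pi))
    {T : Type*} [Group T] (θ : D.cen1 →* T) (hθs : Function.Surjective θ)
    (hθk : ∀ a, θ a = 1 ↔ (a : Spor.Co1) ∈ Subgroup.zpowers (bar (permHom D.pi)))
    {g0 : Co0} (hg0 : g0 ∈ D.cen0) {k0 : ℕ} (hk0 : k0 < 8)
    (hmove : ¬ Cg (g0 • D.basisV k0) (D.basisV k0))
    (hg03 : θ ⟨bar g0, D.bar_mem_cen1 hg0⟩ ^ 3 = 1)
    (hmin : ∀ N : Subgroup T, N.Normal → N ≠ ⊥ → θ ⟨bar g0, D.bar_mem_cen1 hg0⟩ ∈ N)
    {H : Type*} [Group H] [Finite H] (φ : Subgroup.centralizer (Subgroup.zpowers y : Set G) →* H)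
    (hφs : Function.Surjective φ) (hφk : ∀ c, φ c = 1 ↔ (c : G) ∈ Subgroup.zpowers y) :
    ∃ (zb : H) (R : Subgroup (Subgroup.centralizer ({zb} : Set H))) (_ : R.Normal),
      IsExtraspecialCentralizerSetting zb R 4 ∧
      Nonempty ((Subgroup.centralizer ({zb} : Set H)) ⧸ R ≃* T) := by
  haveI : Fact (Nat.Prime 2) := ⟨Nat.prime_two⟩
  have hodd : Odd (orderOf y) := hy ▸ FixData.odd_p hD
  have hyz' : y * z = z * y := Subgroup.mem_centralizer_singleton_iff.1 hyz
  let K : Subgroup G := Subgroup.centralizer ({z} : Set G) ⊓ Subgroup.centralizer ((Subgroup.zpowers y) : Set G)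
  let zC : Subgroup.centralizer ((Subgroup.zpowers y) : Set G) := ⟨z, mem_centralizer_zpowers.2 hyz'.symm⟩
  let zb : H := φ zC
  let Dg : Subgroup H := Subgroup.centralizer ({zb} : Set H)
  let ι : K →* Dg :=
    (φ.comp (Subgroup.inclusion inf_le_right)).codRestrict Dg fun k =>
      Subgroup.mem_centralizer_singleton_iff.2 (by
        rw [MonoidHom.comp_apply, ← map_mul, ← map_mul]
        exact congrArg φ (Subtype.ext (Subgroup.mem_centralizer_singleton_iff.1 k.2.1)))
  have hιk : ∀ k : K, ι k = 1 ↔ (k : G) ∈ (Subgroup.zpowers y) := fun k => by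
    rw [show (k : G) = ((⟨k, k.2.2⟩ : Subgroup.centralizer ((Subgroup.zpowers y) : Set G)) : G) from rfl, ← hφk]
    exact ⟨fun h => congrArg Subtype.val h, fun h => Subtype.ext h⟩
  have hιs : Function.Surjective ι := by
    rintro ⟨w, hw⟩
    obtain ⟨c, rfl⟩ := hφs w
    have h1 : φ (c * zC * c⁻¹ * zC⁻¹) = 1 := by
      rw [map_mul, map_mul, map_mul, map_inv, map_inv, Subgroup.mem_centralizer_singleton_iff.1 hw]
      simp [zb]
    refine ⟨⟨c, Subgroup.mem_centralizer_singleton_iff.2 ?_, c.2⟩, Subtype.ext rfl⟩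
    set w := (c : G) * z * (c : G)⁻¹ * z⁻¹ with hw'
    have hwY : w ∈ (Subgroup.zpowers y) := (hφk _).1 h1
    obtain ⟨n, hn⟩ := hwY
    have hcomm : Commute w z := hn ▸ Commute.zpow_left (show Commute y z from hyz') n
    have h2 : w * w = 1 := by
      have h0 : (w * z) * (w * z) = 1 := by
        rw [hw', inv_mul_cancel_right]
        calc (c : G) * z * (c : G)⁻¹ * ((c : G) * z * (c : G)⁻¹) = c * (z * z) * (c : G)⁻¹ := by group
          _ = 1 := by rw [M.D.z_sq]; group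
      calc w * w = w * w * (z * z) := by rw [M.D.z_sq, mul_one]
        _ = (w * z) * (w * z) := by rw [hcomm.mul_mul_mul_comm]
        _ = 1 := h0
    have h3 : w = 1 := by
      have hd : orderOf w ∣ Nat.gcd (orderOf y) 2 := Nat.dvd_gcd
        (Nat.card_zpowers y ▸ Subgroup.orderOf_dvd_natCard (Subgroup.zpowers y) ⟨n, hn⟩)
        (orderOf_dvd_of_pow_eq_one (by rw [pow_two, h2]))
      rwa [hodd.coprime_two_right, Nat.dvd_one, orderOf_eq_one_iff] at hd
    exact mul_inv_eq_iff_eq_mul.1 (mul_inv_eq_one.1 h3)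
  -- the map onto `T`
  let θK : K →* T := θ.comp ((M.κ.comp (Subgroup.inclusion inf_le_left)).codRestrict D.cen1 fun k =>
    Subgroup.mem_centralizer_singleton_iff.2 (by
      rw [← hκ, MonoidHom.comp_apply, ← map_mul, ← map_mul]
      exact congrArg M.κ (Subtype.ext (mem_centralizer_zpowers.1 k.2.2))))
  have hθK : ∀ k : K, θK k = 1 ↔ M.κ ⟨k, k.2.1⟩ ∈ Subgroup.zpowers (bar (permHom D.pi)) :=
    fun k => hθk _
  have hθKs : Function.Surjective θK := by
    intro t
    obtain ⟨⟨a, ha⟩, rfl⟩ := hθs t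
    obtain ⟨h, rfl⟩ := M.κ_surj a
    let hC := Subgroup.centralizer ({z} : Set G)
    let yC : hC := ⟨y, hyz⟩
    have h1 : M.κ (h * yC * h⁻¹ * yC⁻¹) = 1 := by
      rw [map_mul, map_mul, map_mul, map_inv, map_inv, hκ, Subgroup.mem_centralizer_singleton_iff.1 ha]
      group
    have hq : (h : G) * y * (h : G)⁻¹ * y⁻¹ ∈ Q := (M.κ_ker _).1 h1
    have hle : MulAut.conj (h : G) • (Subgroup.zpowers y) ≤ Q ⊔ (Subgroup.zpowers y) := by
      intro x hx
      rw [Coprime.mem_conj] at hx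
      obtain ⟨n, hn⟩ := hx
      have : x = ((h : G) * y * (h : G)⁻¹ * y⁻¹ * y) ^ n := by
        rw [inv_mul_cancel_right, conj_zpow]
        simp only at hn
        rw [hn]; group
      rw [this]
      exact zpow_mem (Subgroup.mul_mem_sup hq (Subgroup.mem_zpowers y)) n
    have hcop : (Nat.card (Subgroup.zpowers y)).Coprime (Nat.card Q) := by
      rw [Nat.card_zpowers, M.card_Q]; exact Nat.Coprime.pow_right _ hodd.coprime_two_right
    obtain ⟨q, hqQ, hqe⟩ := Coprime.exists_conj_eq_of_le_sup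
      (zpowers_le_normalizer fun x hx => M.D.norm y hyz' x hx) hcop
      (Or.inr (by haveI := (isPGroup_of_extraspecial M.extra).isNilpotent; infer_instance))
      hle (Coprime.card_conj _ _)
    let c : G := q⁻¹ * h
    have hcz : c ∈ Subgroup.centralizer ({z} : Set G) := mul_mem (inv_mem (M.mem_centralizer hqQ)) h.2
    have hκc : M.κ ⟨c, hcz⟩ = M.κ h := by
      rw [show (⟨c, hcz⟩ : hC) = ⟨q, M.mem_centralizer hqQ⟩⁻¹ * h from rfl, map_mul, map_inv,
        (M.κ_ker ⟨q, M.mem_centralizer hqQ⟩).2 hqQ, inv_one, one_mul]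
    have hcy : c * y * c⁻¹ ∈ (Subgroup.zpowers y) := by
      have : (h : G) * y * (h : G)⁻¹ ∈ MulAut.conj q • (Subgroup.zpowers y) :=
        hqe.symm ▸ Coprime.conj_mem_conj.2 (Subgroup.mem_zpowers y)
      rw [Coprime.mem_conj] at this
      convert this using 1
      simp only [c]; group
    have hc1 : c * y * c⁻¹ * y⁻¹ = 1 := by
      refine eq_one_of_zpowers_of_mem M hodd (mul_mem hcy (inv_mem (Subgroup.mem_zpowers y))) ?_
      have : M.κ (⟨c, hcz⟩ * yC * (⟨c, hcz⟩ : hC)⁻¹ * yC⁻¹) = 1 := by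
        rw [map_mul, map_mul, map_mul, map_inv, map_inv, hκc, hκ,
          Subgroup.mem_centralizer_singleton_iff.1 ha]
        group
      exact (M.κ_ker _).1 this
    refine ⟨⟨c, hcz, mem_centralizer_zpowers.2 (mul_inv_eq_iff_eq_mul.1 (mul_inv_eq_one.1 hc1))⟩, ?_⟩
    exact congrArg θ (Subtype.ext hκc)
  -- the normal subgroup
  let QK : Subgroup K := Q.subgroupOf K
  haveI hQK : QK.Normal := ⟨fun q hq k => Subgroup.mem_subgroupOf.2
    (M.D.norm k (Subgroup.mem_centralizer_singleton_iff.1 k.2.1) q (Subgroup.mem_subgroupOf.1 hq))⟩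
  let R : Subgroup Dg := QK.map ι
  haveI hRn : R.Normal := Subgroup.Normal.map inferInstance ι hιs
  have hyK : y ∈ K := ⟨hyz, mem_centralizer_zpowers.2 rfl⟩
  have hker : ∀ k : K, θK k = 1 ↔ ι k ∈ R := by
    intro k
    rw [hθK]
    constructor
    · rintro ⟨n, hn⟩
      refine ⟨k * (⟨y, hyK⟩ : K) ^ (-n), Subgroup.mem_subgroupOf.2 ?_, ?_⟩
      · refine (M.κ_ker (⟨k, k.2.1⟩ * (⟨y, hyz⟩ : Subgroup.centralizer ({z} : Set G)) ^ (-n))).1 ?_
        rw [map_mul, map_zpow, hκ]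
        simp only at hn
        rw [← hn, zpow_neg, mul_inv_cancel]
      · rw [map_mul, map_zpow, (hιk ⟨y, hyK⟩).2 (Subgroup.mem_zpowers y), one_zpow, mul_one]
    · rintro ⟨q, hq, he⟩
      have h1 : ι (q⁻¹ * k) = 1 := by rw [map_mul, map_inv, he, inv_mul_cancel]
      obtain ⟨n, hn⟩ := (hιk _).1 h1
      refine ⟨n, ?_⟩
      have hk : (⟨k, k.2.1⟩ : Subgroup.centralizer ({z} : Set G)) =
          ⟨q, q.2.1⟩ * (⟨y, hyz⟩ : Subgroup.centralizer ({z} : Set G)) ^ n := Subtype.ext (by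
        simp only at hn
        show (k : G) = q * y ^ n
        rw [hn]; simp)
      simp only
      rw [hk, map_mul, map_zpow, (M.κ_ker ⟨q, q.2.1⟩).2 hq, one_mul, hκ]
  have hzK : z ∈ K := ⟨M.mem_centralizer M.D.z_mem, zC.2⟩
  have hinj : ∀ a : K, (a : G) ∈ Q → ι a = 1 → (a : G) = 1 := fun a ha h =>
    eq_one_of_zpowers_of_mem M hodd ((hιk a).1 h) ha
  have hRcard : Nat.card R = 2 ^ 9 := by
    rw [← natCard_cenQ M hD hyz hy hκ]
    have hinjon : Function.Injective (ι.comp QK.subtype) := (injective_iff_map_eq_one _).2 fun a ha =>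
      Subtype.ext (Subtype.ext (hinj a (Subgroup.mem_subgroupOf.1 a.2) ha))
    have hR : R = (ι.comp QK.subtype).range := by
      rw [MonoidHom.range_comp, Subgroup.range_subtype]
    rw [hR, ← Nat.card_congr (MonoidHom.ofInjective hinjon).toEquiv]
    exact Nat.card_congr
      { toFun := fun a => ⟨((a : K) : G), Subgroup.mem_subgroupOf.1 a.2, a.1.2.2⟩
        invFun := fun b => ⟨⟨b, M.mem_centralizer b.2.1, b.2.2⟩, Subgroup.mem_subgroupOf.2 b.2.1⟩
        left_inv := fun a => rfl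
        right_inv := fun b => rfl }
  have hRp : IsPGroup 2 R := IsPGroup.of_card hRcard
  let zd : Dg := ι ⟨z, hzK⟩
  have hz1 : zd ≠ 1 := fun h => M.D.z_ne (hinj ⟨z, hzK⟩ M.D.z_mem h)
  have hzR : zd ∈ R := ⟨⟨z, hzK⟩, Subgroup.mem_subgroupOf.2 M.D.z_mem, rfl⟩
  have hzcent : ∀ w : Dg, w * zd = zd * w := fun w =>
    Subtype.ext (Subgroup.mem_centralizer_singleton_iff.1 w.2)
  have hcommQ : ∀ a b : K, (a : G) ∈ Q → ι a * ι b = ι b * ι a → (a : G) * b = b * a := by
    intro a b ha h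
    refine commutatorElement_eq_one_iff_mul_comm.1 (hinj ⁅a, b⁆ ?_ ?_)
    · show (a : G) * b * (a : G)⁻¹ * (b : G)⁻¹ ∈ Q
      rw [show (a : G) * b * (a : G)⁻¹ * (b : G)⁻¹ = a * (b * (a : G)⁻¹ * (b : G)⁻¹) by group]
      exact mul_mem ha (M.D.norm b (Subgroup.mem_centralizer_singleton_iff.1 b.2.1) _ (inv_mem ha))
    · rw [map_commutatorElement, commutatorElement_eq_one_iff_mul_comm]
      exact h
  have hY1 : (Subgroup.zpowers y) ≠ ⊥ := by
    rw [Ne, Subgroup.zpowers_eq_bot, ← orderOf_eq_one_iff, hy]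
    exact hp.ne_one
  obtain ⟨hsup, hcom, -⟩ := odd_decomposition M.D (isPGroup_of_extraspecial M.extra) (A := (Subgroup.zpowers y))
    (zpowers_le_normalizer fun x hx => M.D.norm y hyz' x hx) (by rwa [Nat.card_zpowers]) hY1
  have hcen : ∀ r ∈ R, (∀ q ∈ R, q * r = r * q) → r = 1 ∨ r = zd := by
    rintro _ ⟨k, hk, rfl⟩ hq
    have hkQ : (k : G) ∈ Q := Subgroup.mem_subgroupOf.1 hk
    rcases M.D.cent k (fun x hx => by
      rw [← hsup, Subgroup.sup_eq_closure] at hx
      induction hx using Subgroup.closure_induction with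
      | mem x hx =>
        rcases hx with hx | hx
        · exact hcommQ ⟨x, M.mem_centralizer hx.1, hx.2⟩ k hx.1 (hq _ ⟨_, Subgroup.mem_subgroupOf.2 hx.1, rfl⟩)
        · exact (hcom k ⟨hkQ, k.2.2⟩ x hx).symm
      | one => simp
      | mul a b _ _ ha hb => exact (Commute.mul_left ha hb).eq
      | inv a _ ha => exact (Commute.inv_left ha).eq) with e | e
    · exact Or.inl (by rw [show k = 1 from Subtype.ext e, map_one])
    · exact Or.inr (congrArg ι (Subtype.ext e : k = ⟨z, hzK⟩))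
  have hRc : ∀ a ∈ R, ∀ b ∈ R, ⁅a, b⁆ = 1 ∨ ⁅a, b⁆ = zd := by
    rintro _ ⟨a, ha, rfl⟩ _ ⟨b, hb, rfl⟩
    rw [← map_commutatorElement]
    rcases M.D.comm _ (Subgroup.mem_subgroupOf.1 ha) _ (Subgroup.mem_subgroupOf.1 hb) with h | h
    · exact Or.inl (by rw [show ⁅a, b⁆ = 1 from Subtype.ext h, map_one])
    · exact Or.inr (congrArg ι (Subtype.ext h : ⁅a, b⁆ = ⟨z, hzK⟩))
  have hRsq : ∀ a ∈ R, a * a = 1 ∨ a * a = zd := by
    rintro _ ⟨a, ha, rfl⟩
    rw [← map_mul]
    rcases M.D.sq (Subgroup.mem_subgroupOf.1 ha) with h | h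
    · exact Or.inl (by rw [show a * a = 1 from Subtype.ext h, map_one])
    · exact Or.inr (congrArg ι (Subtype.ext h : a * a = ⟨z, hzK⟩))
  have hsK : s ∈ K := ⟨M.mem_centralizer hsQ, mem_centralizer_zpowers.2 hys.symm⟩
  obtain ⟨g, hgy, hgz⟩ := exists_fuse M hsQ hs hne hodd hyz' hys
  have hs1 : s ≠ 1 := fun e => by
    rw [e] at hgz; exact M.D.z_ne (conj_eq_one_iff.1 hgz)
  obtain ⟨hRex, -⟩ := isExtraspecial_of_gen hRp hzR hz1 (fun q _ => hzcent q) hcen hRc hRsq (by
    by_contra! hall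
    have hsR : ι ⟨s, hsK⟩ ∈ R := ⟨_, Subgroup.mem_subgroupOf.2 hsQ, rfl⟩
    rcases hcen _ hsR (fun q hq => commutatorElement_eq_one_iff_mul_comm.1 (hall q hq _ hsR)) with e | e
    · exact hs1 (hinj ⟨s, hsK⟩ hsQ e)
    · have h1 : ι (⟨s, hsK⟩ * (⟨z, hzK⟩ : K)⁻¹) = 1 := by rw [map_mul, map_inv, e, mul_inv_cancel]
      exact hne (mul_inv_eq_one.1 (hinj _ (mul_mem hsQ (inv_mem M.D.z_mem)) h1)))
  let η : K →* Dg ⧸ R := (QuotientGroup.mk' R).comp ι
  have hηs : Function.Surjective η := (QuotientGroup.mk'_surjective R).comp hιs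
  have hηk : η.ker = θK.ker := by
    ext k
    rw [MonoidHom.mem_ker, MonoidHom.mem_ker, hker]
    exact QuotientGroup.eq_one_iff _
  let e : Dg ⧸ R ≃* T := (QuotientGroup.quotientKerEquivOfSurjective η hηs).symm.trans
    ((QuotientGroup.quotientMulEquivOfEq hηk).trans (QuotientGroup.quotientKerEquivOfSurjective θK hθKs))
  let f : Dg →* T := e.toMonoidHom.comp (QuotientGroup.mk' R)
  have hfs : Function.Surjective f := e.surjective.comp (QuotientGroup.mk'_surjective R)
  have hfk : ∀ d, f d = 1 ↔ d ∈ R := fun d =>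
    (EmbeddingLike.map_eq_one_iff (f := e)).trans (QuotientGroup.eq_one_iff d)
  have hfι : ∀ k : K, f (ι k) = θK k := fun k => by
    have h1 : (QuotientGroup.quotientKerEquivOfSurjective η hηs).symm (η k) = QuotientGroup.mk k :=
      (MulEquiv.symm_apply_eq _).2 rfl
    show (QuotientGroup.quotientKerEquivOfSurjective θK hθKs) (QuotientGroup.quotientMulEquivOfEq hηk
      ((QuotientGroup.quotientKerEquivOfSurjective η hηs).symm (η k))) = θK k
    rw [h1]
    rfl
  set t0 := θ ⟨bar g0, D.bar_mem_cen1 hg0⟩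
  have hfix : ∀ n : ℤ, (permHom D.pi ^ n) • D.basisV k0 = D.basisV k0 := by
    intro n
    have hb : D.basisV k0 = D.comb (2 ^ k0) := by
      rw [FixData.comb, Finset.sum_eq_single k0]
      · rw [Nat.testBit_two_pow_self, if_pos rfl]
      · intro j _ hj
        rw [if_neg (by simp [Nat.testBit_two_pow, Ne.symm hj])]
      · exact fun hn => absurd (Finset.mem_range.2 hk0) hn
    have hm : permHom D.pi ∈ MulAction.stabilizer Co0 (D.basisV k0) := by
      rw [MulAction.mem_stabilizer_iff, hb, FixData.fixed_comb hD]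
    exact MulAction.mem_stabilizer_iff.1 (zpow_mem hm n)
  have hCR : Subgroup.centralizer (R : Set Dg) ≤ R := by
    intro d hd
    by_contra hdR
    have hN := hmin ((Subgroup.centralizer (R : Set Dg)).map f) (Subgroup.Normal.map inferInstance f hfs)
      (fun h => hdR ((hfk d).1 (Subgroup.eq_bot_iff_forall _ |>.1 h _ ⟨d, hd, rfl⟩)))
    obtain ⟨d', hd', hde⟩ := hN
    obtain ⟨k, rfl⟩ := hιs d'
    rw [hfι] at hde
    have h1 : θ (⟨bar g0, D.bar_mem_cen1 hg0⟩⁻¹ * ⟨M.κ ⟨k, k.2.1⟩, Subgroup.mem_centralizer_singleton_iff.2 (by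
        rw [← hκ, ← map_mul, ← map_mul]
        exact congrArg M.κ (Subtype.ext (mem_centralizer_zpowers.1 k.2.2)))⟩) = 1 := by
      rw [map_mul, map_inv, inv_mul_eq_one]
      exact hde.symm
    obtain ⟨n, hn⟩ := (hθk _).1 h1
    have hkκ : (QuotientGroup.mk (g0 * permHom D.pi ^ n) : Spor.Co1) = M.κ ⟨k, k.2.1⟩ := by
      show bar (g0 * permHom D.pi ^ n) = _
      simp only [Subgroup.coe_mul, Subgroup.coe_inv] at hn
      rw [map_mul, map_zpow, hn, mul_inv_cancel_left]
    obtain ⟨x, hx⟩ := M.exists_rel (D.basisV k0)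
    have hxC : x ∈ Q ⊓ Subgroup.centralizer ((Subgroup.zpowers y) : Set G) := by
      refine ⟨M.rel_mem hx, mem_centralizer_zpowers.2 ?_⟩
      have h2 := M.rel_equiv _ ⟨y, hyz⟩ hκ.symm hx
      rw [show permHom D.pi • D.basisV k0 = D.basisV k0 by simpa using hfix 1] at h2
      rcases (M.rel_cg hx h2).1 (cg_refl _) with e' | e'
      · exact (mul_inv_eq_iff_eq_mul.1 e').symm
      · exfalso
        have h3 : ∀ m : ℕ, y ^ (2 * m) * x * (y ^ (2 * m))⁻¹ = x := by
          intro m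
          induction m with
          | zero => simp
          | succ m ih =>
            have hyzy : y * z * y⁻¹ = z := mul_inv_eq_iff_eq_mul.2 hyz'
            calc y ^ (2 * (m + 1)) * x * (y ^ (2 * (m + 1)))⁻¹
                = y * (y * (y ^ (2 * m) * x * (y ^ (2 * m))⁻¹) * y⁻¹) * y⁻¹ := by
                  rw [show 2 * (m + 1) = 2 * m + 1 + 1 by ring, pow_succ', pow_succ']; group
              _ = y * (x * z) * y⁻¹ := by rw [ih, show (y : G) * x * y⁻¹ = x * z from e']
              _ = (y * x * y⁻¹) * (y * z * y⁻¹) := by group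
              _ = x := by
                  rw [show (y : G) * x * y⁻¹ = x * z from e', hyzy, mul_assoc,
                    M.D.z_sq, mul_one]
        obtain ⟨m, hm⟩ := hodd.add_one
        have h4 := h3 m
        rw [two_mul, ← hm, pow_succ, pow_orderOf_eq_one, one_mul,
          show (y : G) * x * y⁻¹ = x * z from e'] at h4
        exact M.D.z_ne (mul_eq_left.1 h4)
    let xK : K := ⟨x, M.mem_centralizer hxC.1, hxC.2⟩
    have h5 := hcommQ xK k hxC.1 (Subgroup.mem_centralizer_iff.1 hd' _ ⟨xK, Subgroup.mem_subgroupOf.2 hxC.1, rfl⟩)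
    have h6 := M.rel_equiv _ ⟨k, k.2.1⟩ hkκ hx
    have hkx : (k : G) * x * (k : G)⁻¹ = x := mul_inv_eq_iff_eq_mul.2 h5.symm
    rw [hkx, mul_smul, hfix] at h6
    exact hmove ((M.rel_cg h6 hx).2 (Or.inl rfl))
  have hO : ∀ N : Subgroup Dg, N.Normal → IsPGroup 2 N → N ≤ R := by
    intro N hN hNp d hd
    by_contra hdR
    obtain ⟨d', hd', hde⟩ := hmin (N.map f) (Subgroup.Normal.map hN f hfs)
      (fun h => hdR ((hfk d).1 (Subgroup.eq_bot_iff_forall _ |>.1 h _ ⟨d, hd, rfl⟩)))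
    obtain ⟨n, hn⟩ := (hNp.map f) ⟨f d', d', hd', rfl⟩
    have h2 : t0 ^ 2 ^ n = 1 := by rw [← hde]; exact congrArg Subtype.val hn
    have ht : orderOf t0 = 1 := Nat.eq_one_of_dvd_coprimes
      (Nat.Coprime.pow_right n (by norm_num : Nat.Coprime 3 2))
      (orderOf_dvd_of_pow_eq_one hg03) (orderOf_dvd_of_pow_eq_one h2)
    obtain ⟨n', hn'⟩ := (hθk _).1 (orderOf_eq_one_iff.1 ht)
    have h7 : bar g0 = bar (permHom D.pi ^ n') := by rw [map_zpow]; exact hn'.symm
    refine hmove ?_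
    obtain ⟨c, hc, he⟩ := (QuotientGroup.mk'_eq_mk' _).1 h7
    rcases Leech.center_eq hc with rfl | rfl
    · rw [mul_one] at he
      rw [he, hfix]; exact cg_refl _
    · have : g0 = permHom D.pi ^ n' * Leech.negOne := by
        rw [← he, mul_assoc, negOne_mul_self, mul_one]
      rw [this, mul_smul, Leech.negOne_smul, Leech.smul_vneg, hfix]
      exact (Cg.neg _).symm
  let gC : Subgroup.centralizer ((Subgroup.zpowers y) : Set G) := ⟨g, mem_centralizer_zpowers.2 hgy⟩
  refine ⟨zb, R, hRn, ⟨?_, genFitting_eq_of hRp hCR hO, hRex, hRcard, φ gC, ?_, ?_⟩, ⟨e⟩⟩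
  · refine orderOf_eq_prime ?_ fun h => hz1 (Subtype.ext h)
    rw [pow_two, ← map_mul, show zC * zC = 1 from Subtype.ext M.D.z_sq, map_one]
  · have hc : φ gC * zb * (φ gC)⁻¹ = (ι ⟨s, hsK⟩ : H) := by
      rw [← map_inv, ← map_mul, ← map_mul]
      exact congrArg φ (Subtype.ext hgz)
    refine ⟨?_, ?_⟩
    · rw [hc]; exact (ι _).2
    · exact Set.mem_of_eq_of_mem (Subtype.ext hc) (Subgroup.mem_map_of_mem _ (Subgroup.mem_subgroupOf.2 hsQ))
  · intro h
    have h1 : φ (gC * zC * gC⁻¹ * zC⁻¹) = 1 := by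
      rw [map_mul, map_mul, map_mul, map_inv, map_inv, h, mul_inv_cancel]
    have h2 : g * z * g⁻¹ * z⁻¹ = 1 := by
      refine eq_one_of_zpowers_of_mem M hodd ((hφk _).1 h1) ?_
      rw [hgz]; exact mul_mem hsQ (inv_mem M.D.z_mem)
    rw [hgz] at h2
    exact hne (mul_inv_eq_one.1 h2)

end Cfsg.Agent.MonsterLocal
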