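import Cfsg.Agent.Lib.LargeExtraspecial.MonsterBaby

/-!
# Centralisers of odd elements in a group of Monster type: normal forms

* `Setting.twist` : the setting seen through an automorphism of the lattice
* `exists_frame_perm` : an element of odd prime order centralising `z` and a conjugate `s` of `z` in `Q`
  becomes a permutation matrix after a twist
* `card_sylow_le`, `exists_central_sylow` : Sylow subgroups of the joint centraliser
-/

set_option autoImplicit false
open scoped commutatorElement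
open Cfsg

namespace Cfsg.Agent.MonsterLocal

open Monster MonsterLattice LargeExtraspecial

variable {G : Type*} [Group G]

/-- The class of the image in the first Conway group. -/
abbrev bar : Co0 →* Spor.Co1 := QuotientGroup.mk' (Subgroup.center Co0)

theorem bar_eq_one {g : Co0} : bar g = 1 ↔ g = 1 ∨ g = Leech.negOne := by
  rw [QuotientGroup.mk'_apply, QuotientGroup.eq_one_iff]
  exact ⟨Leech.center_eq, by rintro (rfl | rfl); exacts [one_mem _, Leech.negOne_mem_center]⟩

theorem negOne_mul_self : Leech.negOne * Leech.negOne = 1 :=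
  Leech.co0_ext fun v => by rw [mul_smul, Leech.negOne_smul, Leech.negOne_smul, neg_neg, one_smul]

/-- The same identification read through `k`. -/
def twist {Q : Subgroup G} {z : G} (M : Setting Q z) (k : Co0) : Setting Q z where
  rel v x := M.rel (k • v) x
  κ := (MulAut.conj (bar k)⁻¹).toMonoidHom.comp M.κ
  D := M.D
  extra := M.extra
  card_Q := M.card_Q
  κ_surj := (MulAut.conj (bar k)⁻¹).surjective.comp M.κ_surj
  κ_ker h := by
    rw [← M.κ_ker h, MonoidHom.comp_apply, MulEquiv.coe_toMonoidHom, EmbeddingLike.map_eq_one_iff]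
  rel_mem := M.rel_mem
  exists_rel v := M.exists_rel _
  rel_surj x hx := by
    obtain ⟨v, hv⟩ := M.rel_surj x hx
    exact ⟨k⁻¹ • v, by rw [smul_inv_smul]; exact hv⟩
  rel_z := M.rel_z
  rel_cg {v w x y} hx hy := by
    rw [← M.rel_cg hx hy]
    refine ⟨fun h => h.smul k, fun h => ?_⟩
    have := h.smul k⁻¹
    rwa [inv_smul_smul, inv_smul_smul] at this
  rel_add {v w x y} hx hy := by
    show M.rel (k • (v + w)) _
    rw [Leech.smul_vadd]
    exact M.rel_add hx hy
  rel_equiv g h he v x hx := by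
    have he' : (QuotientGroup.mk (k * g * k⁻¹) : Spor.Co1) = M.κ h := by
      show bar (k * g * k⁻¹) = M.κ h
      have he'' : bar g = MulAut.conj (bar k)⁻¹ (M.κ h) := he
      rw [map_mul, map_mul, map_inv, he'']
      simp [mul_assoc]
    show M.rel (k • g • v) _
    have := M.rel_equiv _ h he' hx
    rwa [mul_smul, mul_smul, inv_smul_smul] at this
  exists_conj := M.exists_conj

theorem twist_κ {Q : Subgroup G} {z : G} (M : Setting Q z) (k : Co0)
    (h : Subgroup.centralizer ({z} : Set G)) : (twist M k).κ h = (bar k)⁻¹ * M.κ h * bar k := by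
  show MulAut.conj (bar k)⁻¹ (M.κ h) = _
  simp [MulAut.conj_apply]

/-- A class of norm 64 becomes the standard one. -/
theorem exists_std [Finite G] {Q : Subgroup G} {z : G} (M : Setting Q z) {s : G} (hsQ : s ∈ Q)
    (hs : IsConj z s) (hne : s ≠ z) : ∃ k : Co0, (twist M k).rel (Leech.eightVec none) s := by
  obtain ⟨v, hv, hn⟩ := M.rep64 hsQ hs hne
  obtain ⟨k, hk⟩ := transitive (v := Leech.eightVec none) (w := v)
    (Or.inr (Or.inr (Leech.sqNorm_eightVec none))) (by rw [hn, Leech.sqNorm_eightVec])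
  exact ⟨k, M.rel_of_cg hv hk.symm⟩

theorem rel_twist_std {Q : Subgroup G} {z : G} (M : Setting Q z) {k : Co0} (hk : k ∈ Leech.stdStab)
    {s : G} (h : M.rel (Leech.eightVec none) s) : (twist M k).rel (Leech.eightVec none) s :=
  M.rel_of_cg h (Cg.symm (mem_clsStab.1 (clsStab_eightVec.symm ▸ hk)))

/-! ### Straightening the permutation part -/

/-- The product `c₀ c₁ ⋯ cₙ₋₁` with `cᵢ = uⁱ s u⁻ⁱ`. -/
def normProd {H : Type*} [Group H] (s u : H) : ℕ → H
  | 0 => 1
  | n + 1 => s * (u * normProd s u n * u⁻¹)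

theorem mul_pow_eq {H : Type*} [Group H] (s u : H) : ∀ n : ℕ, (s * u) ^ n = normProd s u n * u ^ n
  | 0 => by simp [normProd]
  | n + 1 => by rw [pow_succ', mul_pow_eq s u n, normProd, pow_succ']; group

theorem normProd_mem {H : Type*} [Group H] {A : Subgroup H} {s u : H} (hs : s ∈ A)
    (hu : ∀ a ∈ A, u * a * u⁻¹ ∈ A) : ∀ n, normProd s u n ∈ A
  | 0 => one_mem A
  | n + 1 => mul_mem hs (hu _ (normProd_mem hs hu n))

/-- A complement of odd order is conjugate to the standard one. -/
theorem exists_straighten {H : Type*} [Group H] {A : Subgroup H} {s u : H} {p : ℕ} (hp : Odd p)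
    (hs : s ∈ A) (hA : ∀ a ∈ A, a * a = 1) (hu : ∀ a ∈ A, u * a * u⁻¹ ∈ A)
    (hsu : (s * u) ^ p = 1) (hup : u ^ p = 1) : ∃ t ∈ A, t * u * t⁻¹ = s * u := by
  obtain ⟨m, rfl⟩ := hp
  have comm : ∀ a ∈ A, ∀ b ∈ A, a * b = b * a := fun a ha b hb => by
    have h := hA _ (mul_mem ha hb)
    calc a * b = (a * b)⁻¹ := eq_inv_of_mul_eq_one_left h
      _ = b⁻¹ * a⁻¹ := mul_inv_rev a b
      _ = b * a := by rw [← eq_inv_of_mul_eq_one_left (hA a ha), ← eq_inv_of_mul_eq_one_left (hA b hb)]
  suffices H0 : ∀ n, ∃ t ∈ A, t * (u * t * u⁻¹) = u * normProd s u (2 * n) * u⁻¹ by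
    obtain ⟨t, ht, he⟩ := H0 m
    refine ⟨t, ht, ?_⟩
    have h1 : normProd s u (2 * m + 1) = 1 := by
      have := mul_pow_eq s u (2 * m + 1)
      rwa [hsu, hup, mul_one, eq_comm] at this
    rw [normProd] at h1
    have h2 : u * normProd s u (2 * m) * u⁻¹ = s :=
      (eq_inv_of_mul_eq_one_right h1).trans (eq_inv_of_mul_eq_one_left (hA s hs)).symm
    rw [← eq_inv_of_mul_eq_one_left (hA t ht)]
    calc t * u * t = t * (u * t * u⁻¹) * u := by group
      _ = _ := by rw [he, h2]
  intro n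
  induction n with
  | zero => exact ⟨1, one_mem A, by simp [normProd]⟩
  | succ n ih =>
    obtain ⟨t, ht, he⟩ := ih
    have hN := normProd_mem hs hu (2 * n)
    refine ⟨u * s * u⁻¹ * (u * (u * t * u⁻¹) * u⁻¹), mul_mem (hu _ hs) (hu _ (hu _ ht)), ?_⟩
    rw [show 2 * (n + 1) = 2 * n + 1 + 1 by ring, normProd, normProd]
    set a := u * s * u⁻¹
    set b := u * (u * t * u⁻¹) * u⁻¹
    have ha : a ∈ A := hu _ hs
    have hb : b ∈ A := hu _ (hu _ ht)
    calc a * b * (u * (a * b) * u⁻¹) = a * (b * (u * a * u⁻¹)) * (u * b * u⁻¹) := by group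
      _ = a * ((u * a * u⁻¹) * b) * (u * b * u⁻¹) := by rw [comm b hb _ (hu a ha)]
      _ = a * (u * a * u⁻¹) * (u * (u * (t * (u * t * u⁻¹)) * u⁻¹) * u⁻¹) := by
        simp only [b]; group
      _ = _ := by rw [he]; simp only [a]; group

theorem permHom_pow_eq_one {σ : M24} {n : ℕ} {s : Co0} (hs : s ∈ signs)
    (h : (s * permHom σ) ^ n = 1) : σ ^ n = 1 := by
  rw [mul_pow_eq] at h
  refine permHom_disjoint ?_
  rw [map_pow, eq_inv_of_mul_eq_one_right h]
  exact inv_mem (normProd_mem hs (fun a ha => signs_normal (permHom_mem σ) ha) n)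

theorem κ_inj_of_pow [Finite G] {Q : Subgroup G} {z : G} (M : Setting Q z) {p : ℕ} (hp : Odd p)
    {h : Subgroup.centralizer ({z} : Set G)} (hh : M.κ h = 1) (hpow : (h : G) ^ p = 1) :
    (h : G) = 1 := by
  have h1 : (h : G) ∈ Q := (M.κ_ker h).1 hh
  have h2 : orderOf (h : G) ∣ Nat.gcd p (2 ^ 25) := Nat.dvd_gcd (orderOf_dvd_of_pow_eq_one hpow)
    (M.card_Q ▸ Subgroup.orderOf_dvd_natCard Q h1)
  rwa [Nat.Coprime.pow_right 25 hp.coprime_two_right, Nat.dvd_one, orderOf_eq_one_iff] at h2

/-- The normal form. -/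
theorem exists_frame_perm [Finite G] {Q : Subgroup G} {z : G} (M : Setting Q z) {s : G} (hsQ : s ∈ Q)
    (hs : IsConj z s) (hne : s ≠ z) {p : ℕ} (hp : p.Prime) (hodd : Odd p) {y : G} (hy : orderOf y = p)
    (hyz : y ∈ Subgroup.centralizer ({z} : Set G)) (hys : y * s = s * y) :
    ∃ (M' : Setting Q z) (σ : M24), orderOf σ = p ∧ M'.rel (Leech.eightVec none) s ∧
      M'.κ ⟨y, hyz⟩ = bar (permHom σ) := by
  obtain ⟨k, hk⟩ := exists_std M hsQ hs hne
  set N := twist M k
  set yC : Subgroup.centralizer ({z} : Set G) := ⟨y, hyz⟩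
  have hyp : yC ^ p = 1 := Subtype.ext (by simpa [hy] using pow_orderOf_eq_one y)
  have hmap := N.map_centralizer hk (Or.inr (Or.inr (Leech.sqNorm_eightVec none)))
  rw [clsStab_eightVec] at hmap
  obtain ⟨g, hg, hge⟩ : N.κ yC ∈ Leech.stdStab.map bar :=
    hmap ▸ ⟨yC, Subgroup.mem_centralizer_singleton_iff.2 hys, rfl⟩
  have hg' : bar (g ^ (p + 1)) = N.κ yC := by
    rw [map_pow, hge, ← map_pow, pow_succ, hyp, one_mul]
  have hgp : (g ^ (p + 1)) ^ p = 1 := by
    obtain ⟨j, hj⟩ := hodd.add_one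
    rw [← pow_mul, mul_comm, pow_mul]
    have : g ^ p = 1 ∨ g ^ p = Leech.negOne := bar_eq_one.1 (by rw [map_pow, hge, ← map_pow, hyp, map_one])
    rcases this with e | e <;> rw [e]
    · simp
    · rw [hj, ← two_mul, pow_mul, pow_two, negOne_mul_self, one_pow]
  obtain ⟨a, ha, σ, he⟩ := exists_decomp (pow_mem hg (p + 1))
  rw [he] at hgp
  have hσp := permHom_pow_eq_one ha hgp
  obtain ⟨t, ht, hte⟩ := exists_straighten (A := signs) hodd ha (fun _ => signs_sq)
    (fun b hb => signs_normal (permHom_mem σ) hb) hgp (by rw [← map_pow, hσp, map_one])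
  refine ⟨twist N t, σ, ?_, rel_twist_std N (signs_le ht) hk, ?_⟩
  · haveI : Fact p.Prime := ⟨hp⟩
    refine orderOf_eq_prime hσp fun h1 => ?_
    simp only [h1, map_one, mul_one, mul_inv_cancel] at hte
    have h2 : N.κ yC = 1 := by
      rw [← hg', he, h1, map_one, mul_one, ← hte, map_one]
    have := κ_inj_of_pow N hodd h2 (by simpa [hy] using pow_orderOf_eq_one y)
    change y = 1 at this
    rw [this, orderOf_one] at hy
    exact hp.ne_one hy.symm
  · rw [twist_κ, ← hg', he, ← hte, map_mul, map_mul, map_inv]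
    group

/-- A conjugate permutation part. -/
theorem exists_conj_perm {Q : Subgroup G} {z : G} (M : Setting Q z) {s : G}
    (hs : M.rel (Leech.eightVec none) s) {h : Subgroup.centralizer ({z} : Set G)} {σ π τ : M24}
    (hh : M.κ h = bar (permHom σ)) (hτ : τ * σ = π * τ) :
    ∃ M' : Setting Q z, M'.rel (Leech.eightVec none) s ∧ M'.κ h = bar (permHom π) := by
  refine ⟨twist M (permHom τ⁻¹), rel_twist_std M (permHom_mem _) hs, ?_⟩
  rw [twist_κ, hh, ← map_inv, ← map_mul, ← map_mul, ← map_inv, ← map_mul, ← map_mul, inv_inv, hτ,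
    mul_inv_cancel_right]

theorem joint_le {z s : G} : Subgroup.centralizer ({z, s} : Set G) ≤ Subgroup.centralizer ({z} : Set G) :=
  Subgroup.centralizer_le (Set.singleton_subset_iff.2 (Set.mem_insert _ _))

theorem mem_joint {z s x : G} :
    x ∈ Subgroup.centralizer ({z, s} : Set G) ↔ x * z = z * x ∧ x * s = s * x := by
  refine Subgroup.mem_centralizer_iff.trans ⟨fun h => ⟨(h z (Or.inl rfl)).symm, (h s (Or.inr rfl)).symm⟩, ?_⟩
  rintro ⟨h1, h2⟩ a (rfl | rfl)
  exacts [h1.symm, h2.symm]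

/-- Elements of the joint centraliser with permutation images. -/
theorem exists_lift_perm {Q : Subgroup G} {z : G} (M : Setting Q z) {s : G}
    (hs : M.rel (Leech.eightVec none) s) (σ : M24) :
    ∃ (x : G) (hx : x ∈ Subgroup.centralizer ({z, s} : Set G)), M.κ ⟨x, joint_le hx⟩ = bar (permHom σ) := by
  have hmap := M.map_centralizer hs (Or.inr (Or.inr (Leech.sqNorm_eightVec none)))
  rw [clsStab_eightVec] at hmap
  obtain ⟨h, hh, he⟩ : bar (permHom σ) ∈ ((Subgroup.centralizer ({s} : Set G)).subgroupOf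
      (Subgroup.centralizer ({z} : Set G))).map M.κ := hmap.symm ▸ ⟨_, permHom_mem σ, rfl⟩
  exact ⟨h, mem_joint.2 ⟨Subgroup.mem_centralizer_singleton_iff.1 h.2,
    Subgroup.mem_centralizer_singleton_iff.1 hh⟩, he⟩

/-- A Sylow subgroup of the joint centraliser is no larger than one of the monomial group. -/
theorem card_pgroup_dvd [Finite G] {Q : Subgroup G} {z : G} (M : Setting Q z) {s : G}
    (hs : M.rel (Leech.eightVec none) s) {p : ℕ} (hp : Odd p)
    {P : Subgroup (Subgroup.centralizer ({z, s} : Set G))} (hP : IsPGroup p P) :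
    Nat.card P ∣ 4096 * 244823040 := by
  let f : P →* Spor.Co1 := M.κ.comp ((Subgroup.inclusion joint_le).comp P.subtype)
  have hmap := M.map_centralizer hs (Or.inr (Or.inr (Leech.sqNorm_eightVec none)))
  rw [clsStab_eightVec] at hmap
  have hf : Function.Injective f := (injective_iff_map_eq_one f).2 fun a ha => by
    obtain ⟨n, hn⟩ := hP a
    refine Subtype.ext (Subtype.ext (κ_inj_of_pow M (hp.pow (n := n)) ha ?_))
    exact congrArg (fun w : P => ((w : Subgroup.centralizer ({z, s} : Set G)) : G)) hn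
  have hr : f.range ≤ Leech.stdStab.map bar := by
    rintro _ ⟨a, rfl⟩
    exact hmap ▸ ⟨_, Subgroup.mem_centralizer_singleton_iff.2 (mem_joint.1 a.1.2).2, rfl⟩
  rw [Nat.card_congr (MonoidHom.ofInjective hf).toEquiv]
  exact ((Subgroup.card_dvd_of_le hr).trans (Subgroup.card_map_dvd _ _)).trans
    (by rw [Leech.natCard_stdStab])

end Cfsg.Agent.MonsterLocal
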